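import Groth.Agent.Gaga.H987.RkIff
import Groth.Agent.UnramA.FieldFibre
import Groth.Agent.Ega4C.FlatLocal
import Groth.Agent.Ega4C.LocusFibre
import Groth.Agent.Ega4A.RegCM
import Groth.Agent.CalgB.RegHom8
import Groth.Agent.S2038

/-!
# Depth, dimension and `(S_k)`, `(R_k)` along regular homomorphisms

For a regular local homomorphism `A → B` of Noetherian local rings: dimension and depth of `B`
and `A` differ by the same number (`exists_dim_depth`).  Hence `(S_k)` ascends and descends (`hasSk_iff`), and
the codepth is the same (`codepth_eq`).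
-/

set_option autoImplicit false
universe u

open IsLocalRing EGA4

namespace K134.RegFib

/-- A minimal prime over `I` has height zero modulo `I`. -/
theorem height_map_mk_eq_zero {C : Type u} [CommRing C] (I Q : Ideal C) [Q.IsPrime]
    (h : Q ∈ I.minimalPrimes) : (Q.map (Ideal.Quotient.mk I)).height = 0 := by
  have h1 : Q.map (Ideal.Quotient.mk I) ∈ (⊥ : Ideal (C ⧸ I)).minimalPrimes := by
    have h2 := Ideal.minimalPrimes_map_of_surjective (Ideal.Quotient.mk_surjective (I := I)) I
    rw [Ideal.mk_ker, sup_idem, Ideal.map_quotient_self] at h2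
    rw [h2]
    exact ⟨Q, h, rfl⟩
  have : (Q.map (Ideal.Quotient.mk I)).IsPrime := h1.1.1
  exact Ideal.height_eq_zero_iff.mpr h1

section Local

variable {A B : Type u} [CommRing A] [CommRing B] [IsLocalRing A] [IsLocalRing B] [IsNoetherianRing A]
  [IsNoetherianRing B] [Algebra A B] [IsLocalHom (algebraMap A B)]

omit [IsNoetherianRing A] [IsNoetherianRing B] in
/-- The closed fibre of a regular local homomorphism is a regular local ring. -/
theorem isRegularLocalRing_fibRing (h : CAlg.IsRegularHom A B) :
    IsRegularLocalRing (EGA4.FibRing A B) := by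
  have h3 := Groth.Agent.Ega4C.LocusFibre.isRegularRing_of_isGeometricallyRegular _ _ (h.2 (maximalIdeal A)).2
  have h4 : IsRegularRing (EGA4.FibRing A B) := IsRegularRing.of_ringEquiv
    (Groth.Agent.S2038.fibreEquiv A B)
  exact IsRegularLocalRing.of_isRegularRing_of_isLocalRing _

/-- Dimension and depth of `B` and `A` differ by the same number. -/
theorem exists_dim_depth (h : CAlg.IsRegularHom A B) :
    ∃ n : ℕ, ringKrullDim B = ringKrullDim A + (n : WithBot ℕ∞) ∧
      LocCoh.depth B B = LocCoh.depth A A + (n : ℕ∞) := by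
  have hfl : Module.Flat A B := h.1
  have hreg := isRegularLocalRing_fibRing h
  have hcm := Groth.Agent.Ega4A.RegCM.isCohenMacaulayLocalRing_of_isRegularLocalRing (EGA4.FibRing A B)
  have h1 := Groth.Agent.Ega4C.FlatLocal.depth_eq A B
  have h2 := Groth.Agent.Ega4C.FlatLocal.ringKrullDim_eq A B
  have h3 := (Groth.Agent.Ega4C.FlatLocal.isCM_iff_depth _).mp hcm
  obtain ⟨n, hn⟩ := Groth.Agent.Ega4C.FlatLocal.exists_depth_eq (EGA4.FibRing A B)
  refine ⟨n, ?_, ?_⟩
  · rw [h2, h3, hn]; rfl
  · rw [h1, hn]

/-- The codepth is the same. -/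
theorem codepth_eq (h : CAlg.IsRegularHom A B) :
    ringKrullDim B + ((LocCoh.depth A A : ℕ∞) : WithBot ℕ∞) =
      ringKrullDim A + ((LocCoh.depth B B : ℕ∞) : WithBot ℕ∞) := by
  obtain ⟨n, h1, h2⟩ := exists_dim_depth h
  rw [h1, h2, WithBot.coe_add, add_assoc, add_comm ((n : ℕ) : WithBot ℕ∞)]
  rfl

end Local

/-- Dimension and depth of `B_q` against `A_p`. -/
theorem local_facts {A B : Type u} [CommRing A] [CommRing B] [IsNoetherianRing A] [IsNoetherianRing B] [Algebra A B]
    (h : CAlg.IsRegularHom A B) (p : Ideal A) [p.IsPrime] (q : Ideal B) [q.IsPrime] [hlo : q.LiesOver p] :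
    ∃ n : ℕ, ringKrullDim (Localization.AtPrime q) =
        ringKrullDim (Localization.AtPrime p) + (n : WithBot ℕ∞) ∧
      LocCoh.depth (Localization.AtPrime q) (Localization.AtPrime q) =
        LocCoh.depth (Localization.AtPrime p) (Localization.AtPrime p) + (n : ℕ∞) := by
  let := Localization.AtPrime.algebraOfLiesOver p q
  have hloc : IsLocalHom (algebraMap (Localization.AtPrime p) (Localization.AtPrime q)) := by
    rw [RingHom.algebraMap_toAlgebra]
    exact Localization.isLocalHom_localRingHom _ q (algebraMap A B) Ideal.LiesOver.over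
  exact exists_dim_depth (Groth.Agent.CalgB.RegHom8.isRegularHom_atPrime h p q)

/-- **`(S_k)` ascends and descends** along faithfully flat regular homomorphisms of Noetherian rings. -/
theorem hasSk_iff {A B : Type u} [CommRing A] [CommRing B] [IsNoetherianRing A] [IsNoetherianRing B] [Algebra A B]
    [Module.FaithfullyFlat A B] (h : CAlg.IsRegularHom A B) (k : ℕ) : LocCoh.HasSk k B B ↔ LocCoh.HasSk k A A := by
  rw [Groth.Agent.UnramA.FieldFibre.hasSk_self_iff, Groth.Agent.UnramA.FieldFibre.hasSk_self_iff]
  constructor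
  · intro H p hp
    obtain ⟨q₀, hq₀, hqp₀⟩ := Ideal.exists_isPrime_liesOver_of_faithfullyFlat (B := B) p
    obtain ⟨q, hq, hqq₀⟩ := Ideal.exists_minimalPrimes_le (I := p.map (algebraMap A B)) (J := q₀)
      (Ideal.map_le_iff_le_comap.mpr hqp₀.over.le)
    have hqprime : q.IsPrime := hq.1.1
    have hle : p ≤ q.comap (algebraMap A B) := Ideal.map_le_iff_le_comap.mp hq.1.2
    have hge : q.comap (algebraMap A B) ≤ p := (Ideal.comap_mono hqq₀).trans hqp₀.over.ge
    have hlo : q.LiesOver p := ⟨le_antisymm hle hge⟩
    obtain ⟨n, h1, h2⟩ := local_facts h p q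
    have h0 : n = 0 := by
      have hfl : Module.Flat A B := h.1
      have e1 := Ideal.height_eq_height_add_of_liesOver_of_hasGoingDown p q
      rw [height_map_mk_eq_zero _ q hq, add_zero] at e1
      rw [IsLocalization.AtPrime.ringKrullDim_eq_height q, IsLocalization.AtPrime.ringKrullDim_eq_height p, e1] at h1
      have e2 : p.height ≠ ⊤ := Ideal.height_ne_top_of_isPrime
      obtain ⟨m, hm⟩ := ENat.ne_top_iff_exists.mp e2
      rw [← hm] at h1
      have h1' : ((m : ℕ) : WithBot ℕ∞) = ((m + n : ℕ) : WithBot ℕ∞) := by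
        rw [Nat.cast_add]; exact h1
      have := Nat.cast_injective (R := WithBot ℕ∞) h1'
      omega
    subst h0
    have h3 := H q
    rw [h1, h2] at h3
    simpa using h3
  · intro H q hq
    have hlo : q.LiesOver (q.under A) := inferInstance
    obtain ⟨n, h1, h2⟩ := local_facts h (q.under A) q
    have h3 := H (q.under A)
    rw [h1, h2, WithBot.coe_add]
    have h4 : min (k : WithBot ℕ∞) (ringKrullDim (Localization.AtPrime (q.under A)) + (n : WithBot ℕ∞)) ≤
        min (k : WithBot ℕ∞) (ringKrullDim (Localization.AtPrime (q.under A))) + (n : WithBot ℕ∞) := by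
      rcases le_total (k : WithBot ℕ∞) (ringKrullDim (Localization.AtPrime (q.under A))) with hk | hk
      · rw [min_eq_left hk]
        refine (min_le_left _ _).trans ?_
        exact le_add_of_nonneg_right (by exact_mod_cast Nat.zero_le n)
      · rw [min_eq_right hk]
        exact min_le_right _ _
    exact h4.trans (add_le_add_left h3 _)

end K134.RegFib
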