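import Groth.Agent.Unram17.K134.LimSource
import Groth.Agent.Unram17.K134.UnramDescend
import Groth.Agent.Sga3.H806.SmoothDescend
import Groth.Agent.Ega43.FPOfComp
import Mathlib.AlgebraicGeometry.Morphisms.Etale

/-!
# Smooth, étale, unramified at the limit if and only if at some stage (quasi-compact source)
-/

set_option autoImplicit false
universe u

open CategoryTheory CategoryTheory.Limits AlgebraicGeometry
open Groth.Agent.Smoothlim.LimBase K134.LimSource

namespace K134.LimIff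

theorem descendsRing_etale : DescendsRing.{u} @LocallyOfFinitePresentation @Etale := by
  intro α _ _ _ F c hc B t ht b hb C γ hQ hP
  have hQ' : LocallyOfFinitePresentation (Spec.map γ) := hQ
  obtain ⟨h1, h2, h3⟩ := Etale.iff_flat_and_formallyUnramified.mp hP
  obtain ⟨i, hi⟩ := descendsRing_flat F c hc t ht b hb γ hQ h1
  obtain ⟨j, hj⟩ := UnramDescend.descendsRing_formallyUnramified F c hc t ht b hb γ
    (show LocallyOfFiniteType (Spec.map γ) from inferInstance) h2
  obtain ⟨k, hik, hjk⟩ := exists_ge_ge i j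
  have e1 : Flat (pullback.snd (Spec.map γ) (Spec.map (t k))) := mono_stage F t ht _ hik hi
  have e2 : FormallyUnramified (pullback.snd (Spec.map γ) (Spec.map (t k))) := mono_stage F t ht _ hjk hj
  exact ⟨k, Etale.of_formallyUnramified_of_flat _⟩

section

variable {I : Type u} [SmallCategory I]
    {D : I ⥤ Scheme.{u}} {c : Limits.Cone D} {i₀ : I}
    {X₀ Y₀ : Scheme.{u}} {f₀ : X₀ ⟶ Y₀} {g₀ : Y₀ ⟶ D.obj i₀}
    {X Y : Scheme.{u}} {f : X ⟶ Y} {g : Y ⟶ c.pt} {qY : Y ⟶ Y₀} {qX : X ⟶ X₀}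

/-- A property stable under base change passes from a stage to the limit. -/
theorem of_stage {P : MorphismProperty Scheme.{u}} [P.IsStableUnderBaseChange]
    (hY : IsPullback qY g g₀ (c.π.app i₀)) (hX : IsPullback qX f f₀ qY)
    {j : I} (φ : j ⟶ i₀) {Xj Yj : Scheme.{u}} {fj : Xj ⟶ Yj} {gj : Yj ⟶ D.obj j} {pY : Yj ⟶ Y₀}
    {pX : Xj ⟶ X₀} (h1 : IsPullback pY gj g₀ (D.map φ)) (h2 : IsPullback pX fj f₀ pY) (h : P fj) : P f := by
  let k : Y ⟶ Yj := h1.lift qY (g ≫ c.π.app j) (by rw [Category.assoc, c.w, hY.w])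
  have hk : k ≫ pY = qY := h1.lift_fst _ _ _
  have h3 : P (pullback.snd f₀ pY) := snd_of_isPullback P h2 h
  have h4 := snd_comp P f₀ pY k h3
  rw [hk] at h4
  exact of_snd P hX h4

theorem iff_stage {P Q : MorphismProperty Scheme.{u}} [P.IsStableUnderBaseChange]
    [P.IsMultiplicative]
    [Q.IsStableUnderBaseChange] [IsZariskiLocalAtSource P] [IsZariskiLocalAtSource Q]
    (hA : DescendsRing Q P) [IsCofiltered I]
    (hc : IsLimit c)
    [∀ (i j : I) (f : i ⟶ j), IsAffineHom (D.map f)] [CompactSpace X₀]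
    (hY : IsPullback qY g g₀ (c.π.app i₀)) (hX : IsPullback qX f f₀ qY) (hQ : Q f₀) :
    P f ↔ ∃ (j : I) (φ : j ⟶ i₀) (Xj Yj : Scheme.{u}) (fj : Xj ⟶ Yj) (gj : Yj ⟶ D.obj j) (pY : Yj ⟶ Y₀)
        (pX : Xj ⟶ X₀), IsPullback pY gj g₀ (D.map φ) ∧ IsPullback pX fj f₀ pY ∧ P fj := by
  constructor
  · intro hP
    obtain ⟨i, φ, hi⟩ := exists_descend_of_compactSource hA D c hc i₀ f₀ g₀ f g qY qX hY hX hQ hP
    exact ⟨i, φ, _, _, _, _, _, _, IsPullback.of_hasPullback g₀ (D.map φ),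
      IsPullback.of_hasPullback f₀ (Limits.pullback.fst g₀ (D.map φ)), hi⟩
  · rintro ⟨j, φ, Xj, Yj, fj, gj, pY, pX, h1, h2, h3⟩
    exact of_stage hY hX φ h1 h2 h3

end

theorem isMultiplicative_smooth : MorphismProperty.IsMultiplicative @Smooth.{u} where
  id_mem _ := (inferInstance : Smooth (𝟙 _))
  comp_mem f g hf hg := by
    have : Smooth f := hf
    have : Smooth g := hg
    exact (inferInstance : Smooth (f ≫ g))

end K134.LimIff
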