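import Groth.Agent.OmegaSh.K583.UnivAffine
import Groth.Agent.PerfA.GenOpen
import Groth.Agent.PerfA.CohZero

/-!
# Formally unramified morphisms have no differentials
-/

set_option autoImplicit false
universe u

open CategoryTheory CategoryTheory.Limits AlgebraicGeometry KaehlerDifferential

namespace K134.OmegaZero

variable {X Y : Scheme.{u}} {f : X ⟶ Y} {Ω' : X.Modules} {d : OmegaSh.Der f Ω'}

/-- Unramifiedness of an affine piece in terms of the sections of the sheaf of differentials. -/
theorem appLE_iff (hd : OmegaSh.IsUniversal d) {U : X.Opens} (hU : IsAffineOpen U) {V : Y.Opens}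
    (hV : IsAffineOpen V) (e : U ≤ f ⁻¹ᵁ V) :
    (f.appLE V U e).hom.FormallyUnramified ↔ Subsingleton Γ(Ω', U) := by
  let := (f.appLE V U e).hom.toAlgebra
  obtain ⟨ε, -⟩ := K583.UnivAffine.exists_kaehler_equiv hd hU hV e rfl
  rw [← ε.toEquiv.subsingleton_congr]
  exact Algebra.formallyUnramified_iff Γ(Y, V) Γ(X, U)

theorem formallyUnramified_iff (hd : OmegaSh.IsUniversal d) : FormallyUnramified f ↔ IsZero Ω' := by
  constructor
  · intro h
    have hq : Coh.IsQCoh Ω' := K583.UnivAffine.isQuasicoherent_of_isUniversal hd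
    refine Groth.Agent.PerfA.GenOpen.isZero_of_sections fun y ↦ ?_
    obtain ⟨V, U, hV, hU, hx, e⟩ := Groth.Agent.CohqA.PullbackQCoh.exists_affine_pair f y
    exact ⟨U, hx, hU, (appLE_iff hd hU hV e).mp (f.formallyUnramified_appLE hV hU e)⟩
  · intro h
    refine ⟨fun {V} hV {U} hU e ↦ (appLE_iff hd hU hV e).mpr ?_⟩
    exact Groth.Agent.PerfA.CohZero.subsingleton_sections h U

end K134.OmegaZero
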