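import Groth.Agent.Unram17.K134.ConormalRetr
import Groth.Agent.OmegaSh.K583.ConExact
import Groth.Agent.Flat2H.FSHom

/-!
# The conormal map is locally split injective when `X' → Y` is formally smooth
-/

set_option autoImplicit false
universe u

open CategoryTheory CategoryTheory.Limits AlgebraicGeometry TopologicalSpace Opposite OmegaSh

namespace K134.ConormalMono

open K583.ConSect K583.IdealStalk K583.StalkDer Groth.Agent.CycB.StalkExact
  Groth.Agent.Fdesc.PullbackStalk Groth.Agent.CohqA.BaseChangeMod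

variable {X' X Y : Scheme.{u}}

/-- Stalk maps of formally smooth morphisms are formally smooth. -/
theorem formallySmooth_stalkMap {X Y : Scheme.{u}} (f : X ⟶ Y) (hf : MoreMor.IsFormallySmoothHom f) (x : X) :
    (f.stalkMap x).hom.FormallySmooth := by
  obtain ⟨_, ⟨U, hU, rfl⟩, hxU, -⟩ :=
    Y.isBasis_affineOpens.exists_subset_of_mem_open (Set.mem_univ (f x)) isOpen_univ
  obtain ⟨_, ⟨V, hV, rfl⟩, hxV, hVU⟩ :=
    X.isBasis_affineOpens.exists_subset_of_mem_open hxU (U.2.preimage f.continuous)
  have h1 := Groth.Agent.Flat2H.FSHom.affLocFS_of_isFormallySmoothHom f hf V U hV hU hVU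
  rw [formallySmooth_stalkMap_iff U hU V hV hVU hxV]
  let := (f.appLE U V hVU).hom.toAlgebra
  have : Algebra.FormallySmooth Γ(Y, U) Γ(X, V) := h1
  exact inferInstanceAs (Algebra.FormallySmooth Γ(Y, U) (Localization.AtPrime _))

variable (j : X' ⟶ X) [IsImmersion j] [QuasiCompact j] {f : X ⟶ Y}
  {Ω' : X.Modules} {d : OmegaSh.Der f Ω'}

/-- The conormal map is split injective on the stalk at `z` if the stalk map of `X' → Y` is formally smooth. -/
theorem exists_retraction (hd : OmegaSh.IsUniversal d)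
    {φ : Omega.conormal j ⟶ (Scheme.Modules.pullback j).obj Ω'} (hφ : OmegaSh.IsConormalDiff j d φ) (z : X')
    (hz : ((j ≫ f).stalkMap z).hom.FormallySmooth) :
    ∃ G : ((Scheme.Modules.pullback j).obj Ω').presheaf.stalk z →ₗ[X'.presheaf.stalk z]
      (Omega.conormal j).presheaf.stalk z, G ∘ₗ stalkLin φ z = LinearMap.id := by
  have hz' : ((j.stalkMap z).hom.comp (f.stalkMap (j z)).hom).FormallySmooth := by
    have h2 : (j ≫ f).stalkMap z = f.stalkMap (j z) ≫ j.stalkMap z := Scheme.Hom.stalkMap_comp j f z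
    have h3 : ((j.stalkMap z).hom.comp (f.stalkMap (j z)).hom) = ((j ≫ f).stalkMap z).hom := by
      rw [h2]
      rfl
    rw [h3]
    exact hz
  exact K134.ConormalRetr.exists_retraction (φ := (f.stalkMap (j z)).hom) (π := (j.stalkMap z).hom)
    (j.stalkMap_surjective z) hz' (idSt_injective _ _)
    (mem_range_idSt_iff j j.isEmbedding.isInducing z) (isBC_canAdd j (ClSub.idealMod j.ker) z)
    (isAlgUniv_stalkDer hd (j z)) (isBC_canAdd j Ω' z) (K583.ConExact.stalk_conormalDiff hφ z)

/-- The conormal map is a monomorphism. -/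
theorem mono (hf : MoreMor.IsFormallySmoothHom (j ≫ f)) (hd : OmegaSh.IsUniversal d)
    {φ : Omega.conormal j ⟶ (Scheme.Modules.pullback j).obj Ω'} (hφ : OmegaSh.IsConormalDiff j d φ) : Mono φ := by
  rw [Groth.Agent.PerfC.FlatExact.mono_iff_stalkLin]
  intro z
  obtain ⟨G, hG⟩ := exists_retraction j hd hφ z (formallySmooth_stalkMap _ hf z)
  exact Function.LeftInverse.injective (g := G) fun x ↦ LinearMap.congr_fun hG x

end K134.ConormalMono
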