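import Groth.Agent.Unram17.K134.LimIff
import Groth.Agent.S0591
import Groth.Agent.Flat2D.SpecFGLimit

/-!
# Models over finitely generated subrings of morphisms of finite presentation with a property `P`
-/

set_option autoImplicit false
universe u

open CategoryTheory CategoryTheory.Limits AlgebraicGeometry
open Groth.Agent.Smoothlim.LimBase Groth.Agent.Flat2D.SpecFGLimit

namespace K134.NoethModel

set_option backward.isDefEq.respectTransparency false in
/-- A morphism of finite presentation with a property `P` which descends along limits, to a limit of quasi-compact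
quasi-separated schemes, comes from a stage where it has `P`. -/
theorem exists_stage_prop {P Q : MorphismProperty Scheme.{u}} [P.IsStableUnderBaseChange]
    [IsZariskiLocalAtTarget P] [Q.IsStableUnderBaseChange]
    (hQ : ∀ {X Y : Scheme.{u}} (f : X ⟶ Y), LocallyOfFinitePresentation f → QuasiCompact f → QuasiSeparated f → Q f)
    (hA : DescendsAffine Q P)
    {I : Type u} [SmallCategory I] [IsCofiltered I]
    (D : I ⥤ Scheme.{u}) (c : Limits.Cone D) (hc : Limits.IsLimit c)
    [∀ (i j : I) (f : i ⟶ j), IsAffineHom (D.map f)] [∀ i, CompactSpace (D.obj i)]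
    [∀ i, QuasiSeparatedSpace (D.obj i)] {X : Scheme.{u}} (f : X ⟶ c.pt)
    [LocallyOfFinitePresentation f] [QuasiCompact f] [QuasiSeparated f] (hP : P f) :
    ∃ (i : I) (Xi : Scheme.{u}) (fi : Xi ⟶ D.obj i) (g : X ⟶ Xi), P fi ∧
      LocallyOfFinitePresentation fi ∧ QuasiCompact fi ∧ QuasiSeparated fi ∧
      IsPullback g f fi (c.π.app i) := by
  obtain ⟨i, Xi, fi, g, h1, h2, h3, h4⟩ := Groth.Agent.S0591.result D c hc X f
  obtain ⟨j, φ, hj⟩ := exists_descend hA D c hc i
    (Y₀ := D.obj i) (Y := c.pt) (f₀ := fi) (g₀ := 𝟙 (D.obj i)) (f := f) (g := 𝟙 c.pt)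
    (qY := c.π.app i) (qX := g) (IsPullback.id_vert (c.π.app i)) h4 (hQ fi h1 h2 h3) hP
  have e1 : D.map φ = inv (pullback.snd (𝟙 (D.obj i)) (D.map φ)) ≫ pullback.fst (𝟙 (D.obj i)) (D.map φ) := by
    rw [IsIso.eq_inv_comp, ← pullback.condition (f := 𝟙 (D.obj i)) (g := D.map φ), Category.comp_id]
  have e2 : P (pullback.snd fi (D.map φ)) := by
    rw [e1]
    exact snd_comp P fi _ _ hj
  have e3 : IsPullback g f fi (c.π.app j ≫ D.map φ) := by rw [c.w]; exact h4
  have e4 := IsPullback.of_right' e3 (IsPullback.of_hasPullback fi (D.map φ))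
  exact ⟨j, _, pullback.snd fi (D.map φ), _, e2, inferInstance, inferInstance, inferInstance, e4⟩

/-- **Noetherian models** of morphisms of finite presentation to `Spec A` with a property `P`. -/
theorem exists_model {P Q : MorphismProperty Scheme.{u}} [P.IsStableUnderBaseChange]
    [IsZariskiLocalAtTarget P] [Q.IsStableUnderBaseChange]
    (hQ : ∀ {X Y : Scheme.{u}} (f : X ⟶ Y), LocallyOfFinitePresentation f → QuasiCompact f → QuasiSeparated f → Q f)
    (hA : DescendsAffine Q P) (A : Type u) [CommRing A] {X : Scheme.{u}}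
    (f : X ⟶ Spec (CommRingCat.of A)) [LocallyOfFinitePresentation f] [QuasiCompact f] [QuasiSeparated f]
    (hP : P f) :
    ∃ A₀ : Subalgebra ℤ A, A₀.FG ∧
      ∃ (X₀ : Scheme.{u}) (f₀ : X₀ ⟶ Spec (CommRingCat.of ↥A₀)) (g : X ⟶ X₀),
        P f₀ ∧ LocallyOfFinitePresentation f₀ ∧ QuasiCompact f₀ ∧ QuasiSeparated f₀ ∧
          IsPullback g f f₀ (Spec.map (CommRingCat.ofHom (algebraMap (↥A₀) A))) := by
  have i1 : ∀ i, CompactSpace ((specDiagram A).obj i) := fun i => inferInstance
  have i2 : ∀ i, QuasiSeparatedSpace ((specDiagram A).obj i) := fun i => inferInstance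
  let f' : X ⟶ (specCone A).pt := f
  have iX1 : LocallyOfFinitePresentation f' := ‹LocallyOfFinitePresentation f›
  have iX2 : QuasiCompact f' := ‹QuasiCompact f›
  have iX3 : QuasiSeparated f' := ‹QuasiSeparated f›
  obtain ⟨k, X₀, f₀, g, h1, h2, h3, h4, h5⟩ := exists_stage_prop hQ hA _ _ (isLimitSpecCone A) f' hP
  exact ⟨k.unop.1, k.unop.2, X₀, f₀, g, h1, h2, h3, h4, h5⟩

end K134.NoethModel
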