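import Groth.Agent.CalgB.RegHom7
import Groth.Agent.Flat2G.SmoothRegNorm
import Mathlib.AlgebraicGeometry.Morphisms.Smooth
import Mathlib.AlgebraicGeometry.AffineScheme

/-!
# Stalks of morphisms which are smooth near a point

* `exists_chart`: if `f` has a property `P` (attached to a property `Q` of ring maps) near `x`, then there is a pair
  of affine opens `x ∈ W ≤ f ⁻¹ V` with `Γ(Y, V) → Γ(X, W)` having `Q`.
* `isRegularHom_stalkMap`: the stalk map is a regular ring homomorphism if `f` is smooth near `x`.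
-/

set_option autoImplicit false
universe u

open CategoryTheory CategoryTheory.Limits AlgebraicGeometry

namespace K134.SmoothStalk

variable {X Y : Scheme.{u}}

lemma isPullback_id_of_mono {W V Y : Scheme.{u}} (j : W ⟶ V) (o : V ⟶ Y) [Mono o] :
    IsPullback (𝟙 W) j (j ≫ o) o := by
  refine ⟨⟨by rw [Category.id_comp]⟩, ⟨PullbackCone.IsLimit.mk _ (fun s => s.fst) ?_ ?_ ?_⟩⟩
  · intro s; exact Category.comp_id _
  · intro s
    rw [← cancel_mono o, Category.assoc]
    exact s.condition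
  · intro s m h1 h2
    rwa [Category.comp_id] at h1

/-- A chart `W → V` from the property near `x`. -/
theorem exists_chart {P : MorphismProperty Scheme.{u}}
    {Q : ∀ {R S : Type u} [CommRing R] [CommRing S], (R →+* S) → Prop} [HasRingHomProperty P Q]
    [P.IsStableUnderBaseChange] (f : X ⟶ Y) (x : X) (hx : ∃ U : X.Opens, x ∈ U ∧ P (U.ι ≫ f))
    (V₀ : Y.Opens) (hV₀ : f x ∈ V₀) :
    ∃ (V : Y.Opens) (_ : IsAffineOpen V) (W : X.Opens) (_ : IsAffineOpen W) (e : W ≤ f ⁻¹ᵁ V),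
      x ∈ W ∧ V ≤ V₀ ∧ Q (f.appLE V W e).hom := by
  obtain ⟨U, hxU, hU⟩ := hx
  obtain ⟨V, hV, hxV, hVV₀⟩ := exists_isAffineOpen_mem_and_subset (x := f x) (U := V₀) hV₀
  obtain ⟨W, hW, hxW, hWU⟩ := exists_isAffineOpen_mem_and_subset (x := x) (U := U ⊓ f ⁻¹ᵁ V) ⟨hxU, hxV⟩
  have e : W ≤ f ⁻¹ᵁ V := fun y hy => (hWU hy).2
  have e' : W ≤ U := fun y hy => (hWU hy).1
  refine ⟨V, hV, W, hW, e, hxW, hVV₀, ?_⟩
  have h1 : P (W.ι ≫ f) := by
    have h2 : W.ι ≫ f = X.homOfLE e' ≫ U.ι ≫ f := by simp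
    rw [h2]
    exact IsZariskiLocalAtSource.comp hU _
  have h3 : P (f.resLE V W e) := by
    have h4 : f.resLE V W e ≫ V.ι = W.ι ≫ f := Scheme.Hom.resLE_comp_ι _ _
    rw [← h4] at h1
    exact P.of_isPullback (isPullback_id_of_mono (f.resLE V W e) V.ι) h1
  have : IsAffine _ := hV
  have : IsAffine _ := hW
  rw [HasRingHomProperty.iff_of_isAffine (P := P)] at h3
  exact ((HasRingHomProperty.isLocal_ringHomProperty P).respectsIso.arrow_mk_iso_iff
    (arrowResLEAppIso f V W e)).mp h3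

/-- The stalk map is a regular ring map if `f` is smooth near `x`. -/
theorem isRegularHom_stalkMap (f : X ⟶ Y) (x : X) (hx : ∃ U : X.Opens, x ∈ U ∧ Smooth (U.ι ≫ f)) :
    letI := (f.stalkMap x).hom.toAlgebra
    CAlg.IsRegularHom (Y.presheaf.stalk (f x)) (X.presheaf.stalk x) := by
  obtain ⟨V, hV, W, hW, e, hxW, -, h⟩ := exists_chart (P := @Smooth) f x hx ⊤ trivial
  let := Y.presheaf.algebra_section_stalk ⟨f x, e hxW⟩
  have l1 := hV.isLocalization_stalk ⟨f x, e hxW⟩
  let := X.presheaf.algebra_section_stalk ⟨x, hxW⟩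
  have l2 := hW.isLocalization_stalk ⟨x, hxW⟩
  algebraize [(f.appLE V W e).hom, (f.stalkMap x).hom]
  let : Algebra Γ(Y, V) (X.presheaf.stalk x) :=
    ((f.stalkMap x).hom.comp (algebraMap Γ(Y, V) (Y.presheaf.stalk (f x)))).toAlgebra
  have t1 : IsScalarTower Γ(Y, V) (Y.presheaf.stalk (f x)) (X.presheaf.stalk x) := .of_algebraMap_eq fun _ => rfl
  have t2 : IsScalarTower Γ(Y, V) Γ(X, W) (X.presheaf.stalk x) := by
    refine .of_algebraMap_eq' ?_
    change (f.stalkMap x).hom.comp (Y.presheaf.germ V (f x) (e hxW)).hom =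
      (X.presheaf.germ W x hxW).hom.comp (f.appLE V W e).hom
    rw [← CommRingCat.hom_comp, ← CommRingCat.hom_comp, Scheme.Hom.germ_stalkMap]
    congr 1
    rw [Scheme.Hom.appLE, Category.assoc, TopCat.Presheaf.germ_res]
  have h1 : CAlg.IsRegularHom Γ(Y, V) Γ(X, W) := Groth.Agent.Flat2G.SmoothRegNorm.isRegularHom_of_smooth _ _
  have h2 : CAlg.IsRegularHom Γ(Y, V) (X.presheaf.stalk x) :=
    Groth.Agent.CalgB.RegHom7.isRegularHom_localization_right _ (hW.primeIdealOf ⟨x, hxW⟩).asIdeal.primeCompl h1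
  exact Groth.Agent.CalgB.RegHom7.isRegularHom_localization_left _ (hV.primeIdealOf ⟨f x, e hxW⟩).asIdeal.primeCompl h2

end K134.SmoothStalk
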