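import Groth.Agent.Unram17.K134.GeomRegSmooth
import Groth.Agent.Unram17.K134.SmoothStalk
import Groth.Agent.Ega43.UnivOpenFlatGeom
import Groth.Agent.Ega43.UnivOpenAt
import Groth.Agent.S2654

/-!
# Smoothness near a point: flat stalk and geometrically regular fibre ring
-/

set_option autoImplicit false
universe u

open TensorProduct IsLocalRing CategoryTheory AlgebraicGeometry

namespace K134.SmoothNhd

section Alg

variable {A B : Type u} [CommRing A] [IsLocalRing A] [CommRing B] [Algebra A B]

/-- The geometric closed fibre is reduced. -/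
theorem isReduced_tensor (h : CAlg.IsGeometricallyRegular (ResidueField A) (ResidueField A ⊗[A] B)) :
    IsReduced (AlgebraicClosure (ResidueField A) ⊗[A] B) := by
  have h1 := Groth.Agent.S2654.isGeometricallyReduced_of_isGeometricallyRegular _ _ h
  have h2 := h1.isReduced_algebraicClosure_tensorProduct
  exact isReduced_of_injective
    (Algebra.TensorProduct.cancelBaseChange A (ResidueField A) (AlgebraicClosure (ResidueField A))
      (AlgebraicClosure (ResidueField A)) B).symm.toRingHom
    (Algebra.TensorProduct.cancelBaseChange A (ResidueField A) (AlgebraicClosure (ResidueField A))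
      (AlgebraicClosure (ResidueField A)) B).symm.injective

/-- From the fibre over the closed point to the closed fibre. -/
theorem isGeometricallyRegular_closedFibre
    (h : CAlg.IsGeometricallyRegular (maximalIdeal A).ResidueField ((maximalIdeal A).Fiber B)) :
    CAlg.IsGeometricallyRegular (ResidueField A) (ResidueField A ⊗[A] B) := by
  intro k' _ _ hfin
  let e : ResidueField A ≃+* (maximalIdeal A).ResidueField :=
    RingEquiv.ofBijective (algebraMap (A ⧸ maximalIdeal A) (maximalIdeal A).ResidueField)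
      (Ideal.bijective_algebraMap_quotient_residueField (maximalIdeal A))
  let : Algebra (maximalIdeal A).ResidueField k' :=
    ((algebraMap (ResidueField A) k').comp e.symm.toRingHom).toAlgebra
  let : Algebra A k' := ((algebraMap (ResidueField A) k').comp (residue A)).toAlgebra
  have t1 : IsScalarTower A (ResidueField A) k' := .of_algebraMap_eq' rfl
  have he : ∀ a : A, e (residue A a) = algebraMap A (maximalIdeal A).ResidueField a := fun a ↦ rfl
  have t2 : IsScalarTower A (maximalIdeal A).ResidueField k' := .of_algebraMap_eq fun a ↦ by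
    change _ = algebraMap (ResidueField A) k' (e.symm (algebraMap A (maximalIdeal A).ResidueField a))
    rw [← he, e.symm_apply_apply]
    rfl
  have hfin' : Module.Finite (maximalIdeal A).ResidueField k' := by
    have h1 : (algebraMap (maximalIdeal A).ResidueField k').Finite :=
      RingHom.Finite.comp (RingHom.finite_algebraMap.mpr hfin) (RingHom.Finite.of_surjective _ e.symm.surjective)
    exact RingHom.finite_algebraMap.mp h1
  have h1 := h k' hfin'
  exact IsRegularRing.of_ringEquiv
    ((Algebra.TensorProduct.cancelBaseChange A (maximalIdeal A).ResidueField k' k' B).toRingEquiv.trans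
      (Algebra.TensorProduct.cancelBaseChange A (ResidueField A) k' k' B).symm.toRingEquiv)

end Alg

variable {X Y : Scheme.{u}}

lemma locallyOfFinitePresentation (f : X ⟶ Y)
    [IsLocallyNoetherian Y] [LocallyOfFiniteType f] : LocallyOfFinitePresentation f where
  finitePresentation_appLE {U} hU {V} hV e := by
    have : IsNoetherianRing Γ(Y, U) := IsLocallyNoetherian.component_noetherian ⟨U, hU⟩
    exact RingHom.FinitePresentation.of_finiteType.1 (f.finiteType_appLE hU hV e)

/-- Smoothness near `x` in terms of the stalk map. -/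
theorem smooth_nhd_iff_formallySmooth (f : X ⟶ Y) [LocallyOfFinitePresentation f] (x : X) :
    (∃ U : X.Opens, x ∈ U ∧ Smooth (U.ι ≫ f)) ↔ (f.stalkMap x).hom.FormallySmooth := by
  rw [← Scheme.Hom.mem_smoothLocus]
  constructor
  · rintro ⟨U, hx, hU⟩
    have h1 := Scheme.Hom.smoothLocus_eq_top (U.ι ≫ f)
    rw [← Scheme.Hom.preimage_smoothLocus_eq] at h1
    have h2 : (⟨x, hx⟩ : U) ∈ U.ι ⁻¹ᵁ f.smoothLocus := h1 ▸ trivial
    exact h2
  · intro h
    refine ⟨f.smoothLocus, h, ?_⟩
    rw [← Scheme.Hom.smoothLocus_eq_top_iff, ← Scheme.Hom.preimage_smoothLocus_eq]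
    simp

/-- **Smoothness near a point**: flatness of the stalk map and geometric regularity of the fibre ring. -/
theorem smooth_nhd_iff (f : X ⟶ Y) [IsLocallyNoetherian Y] [LocallyOfFiniteType f] (x : X) :
    letI φ := (f.stalkMap x).hom
    letI 𝔪 := IsLocalRing.maximalIdeal ↑(Y.presheaf.stalk (f x))
    letI : Algebra (IsLocalRing.ResidueField ↑(Y.presheaf.stalk (f x))) (↑(X.presheaf.stalk x) ⧸ 𝔪.map φ) :=
      (Ideal.quotientMap (𝔪.map φ) φ Ideal.le_comap_map).toAlgebra
    (∃ U : X.Opens, x ∈ U ∧ Smooth (U.ι ≫ f)) ↔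
      (f.stalkMap x).hom.Flat ∧
        CAlg.IsGeometricallyRegular (IsLocalRing.ResidueField ↑(Y.presheaf.stalk (f x)))
          (↑(X.presheaf.stalk x) ⧸ 𝔪.map φ) := by
  have hlfp := locallyOfFinitePresentation f
  have hXn : IsLocallyNoetherian X := LocallyOfFiniteType.isLocallyNoetherian f
  algebraize [(f.stalkMap x).hom]
  have hloc : IsLocalHom (algebraMap (Y.presheaf.stalk (f x)) (X.presheaf.stalk x)) :=
    f.toLRSHom.prop x
  have hess : Algebra.EssFiniteType (Y.presheaf.stalk (f x)) (X.presheaf.stalk x) :=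
    LocallyOfFiniteType.stalkMap f x
  let φ := algebraMap (Y.presheaf.stalk (f x)) (X.presheaf.stalk x)
  let 𝔪 := maximalIdeal ↑(Y.presheaf.stalk (f x))
  let : Algebra (ResidueField ↑(Y.presheaf.stalk (f x))) (↑(X.presheaf.stalk x) ⧸ 𝔪.map φ) :=
      (Ideal.quotientMap (𝔪.map φ) φ Ideal.le_comap_map).toAlgebra
  change _ ↔ _ ∧ CAlg.IsGeometricallyRegular (ResidueField ↑(Y.presheaf.stalk (f x))) (↑(X.presheaf.stalk x) ⧸ 𝔪.map φ)
  obtain ⟨e⟩ := GeomRegSmooth.exists_equiv (A := Y.presheaf.stalk (f x)) (B := X.presheaf.stalk x)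
    (fun _ ↦ rfl)
  constructor
  · intro h
    have h1 := SmoothStalk.isRegularHom_stalkMap f x h
    refine ⟨h1.1, ?_⟩
    exact GeomRegSmooth.isGeometricallyRegular_of_algEquiv e.symm
      (isGeometricallyRegular_closedFibre (h1.2 (maximalIdeal (Y.presheaf.stalk (f x)))).2)
  · rintro ⟨h1, h2⟩
    rw [smooth_nhd_iff_formallySmooth]
    have : Module.Flat (Y.presheaf.stalk (f x)) (X.presheaf.stalk x) := h1
    exact GeomRegSmooth.formallySmooth_of_flat (GeomRegSmooth.isGeometricallyRegular_of_algEquiv e h2)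

/-- Flatness from universal openness along the fibre and geometric regularity of the fibre ring. -/
theorem flat_of_isUnivOpenAt (f : X ⟶ Y) [IsLocallyNoetherian Y] [LocallyOfFiniteType f] (x : X)
    (hred : _root_.IsReduced (Y.presheaf.stalk (f x)))
    (hopen : ∀ z : X, z ⤳ x → f z = f x →
      (∀ w : X, w ⤳ z → f w = f x → w = z) → EGA43.IsUnivOpenAt f z)
    (hreg : letI φ := (f.stalkMap x).hom
      letI 𝔪 := IsLocalRing.maximalIdeal ↑(Y.presheaf.stalk (f x))
      letI : Algebra (IsLocalRing.ResidueField ↑(Y.presheaf.stalk (f x))) (↑(X.presheaf.stalk x) ⧸ 𝔪.map φ) :=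
        (Ideal.quotientMap (𝔪.map φ) φ Ideal.le_comap_map).toAlgebra
      CAlg.IsGeometricallyRegular (IsLocalRing.ResidueField ↑(Y.presheaf.stalk (f x)))
          (↑(X.presheaf.stalk x) ⧸ 𝔪.map φ)) : (f.stalkMap x).hom.Flat := by
  algebraize [(f.stalkMap x).hom]
  have hloc : IsLocalHom (algebraMap (Y.presheaf.stalk (f x)) (X.presheaf.stalk x)) :=
    f.toLRSHom.prop x
  have hess : Algebra.EssFiniteType (Y.presheaf.stalk (f x)) (X.presheaf.stalk x) :=
    LocallyOfFiniteType.stalkMap f x
  let φ := algebraMap (Y.presheaf.stalk (f x)) (X.presheaf.stalk x)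
  let 𝔪 := maximalIdeal ↑(Y.presheaf.stalk (f x))
  let : Algebra (ResidueField ↑(Y.presheaf.stalk (f x))) (↑(X.presheaf.stalk x) ⧸ 𝔪.map φ) :=
      (Ideal.quotientMap (𝔪.map φ) φ Ideal.le_comap_map).toAlgebra
  change CAlg.IsGeometricallyRegular (ResidueField ↑(Y.presheaf.stalk (f x))) (↑(X.presheaf.stalk x) ⧸ 𝔪.map φ) at hreg
  obtain ⟨e⟩ := GeomRegSmooth.exists_equiv (A := Y.presheaf.stalk (f x)) (B := X.presheaf.stalk x)
    (fun _ ↦ rfl)
  have h1 := isReduced_tensor (GeomRegSmooth.isGeometricallyRegular_of_algEquiv e hreg)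
  have hflat : Flat (X.fromSpecStalk x) := Groth.Agent.Ega43.StalkPull.flat_fromSpecStalk X x
  have h : X.fromSpecStalk x ≫ f = Spec.map (CommRingCat.ofHom
      (algebraMap (Y.presheaf.stalk (f x)) (X.presheaf.stalk x))) ≫ Y.fromSpecStalk (f x) :=
    (Scheme.SpecMap_stalkMap_fromSpecStalk f).symm
  refine Groth.Agent.Ega43.UnivOpenFlatGeom.flat_aux f (Y.presheaf.stalk (f x)) (X.presheaf.stalk x)
    (Y.fromSpecStalk (f x)) (X.fromSpecStalk x) h h1 ?_
  intro z hz
  obtain ⟨w, hw, hw1, hw2⟩ := Groth.Agent.Ega43.UnivOpenFlatGeom.exists_fiber_point f x z hz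
  rw [← hw]
  refine hopen _ ?_ ?_ ?_
  · rw [← specializes_iff_mem_closure] at hw1
    have h2 := hw1.map (f.fiberι (f x)).continuous
    rwa [Scheme.Hom.fiberι_asFiber] at h2
  · have h2 : f.fiberι (f x) w ∈ Set.range (f.fiberι (f x)) := ⟨w, rfl⟩
    rw [Scheme.Hom.range_fiberι] at h2
    exact h2
  · intro w' hw' hfw'
    have h2 : w' ∈ Set.range (f.fiberι (f x)) := by
      rw [Scheme.Hom.range_fiberι]
      exact hfw'
    obtain ⟨w', rfl⟩ := h2
    rw [(f.fiberι (f x)).isEmbedding.isInducing.specializes_iff, specializes_iff_mem_closure] at hw'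
    rw [hw2 w' hw']

end K134.SmoothNhd
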