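import Groth.Agent.Unram17.K134.SmoothDimAlg
import Groth.Agent.Unram17.K134.SmoothNhd
import Groth.Agent.Ega2.BasSec
import Groth.Agent.OmegaSh.K583.UnivAffine
import Groth.Agent.Sga4h.BidRed538Geo
import Groth.Agent.Dcoh.FinLocFree
import Groth.Agent.S2768
import Groth.Agent.S0386
import Groth.Agent.Smoothlim.SmoothLocusBC

/-!
# The rank of the sheaf of differentials and the dimension of the fibres
-/

set_option autoImplicit false
universe u

open CategoryTheory CategoryTheory.Limits AlgebraicGeometry KaehlerDifferential Module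

namespace K134.OmegaRank

/-- The dimension of the fibre is local on the source. -/
theorem fibreDimAt_comp {U X Y : Scheme.{u}} (j : U ⟶ X) [IsOpenImmersion j] (f : X ⟶ Y) (u : U) :
    FlatMor.fibreDimAt (j ≫ f) u = FlatMor.fibreDimAt f (j u) := by
  rw [Groth.Agent.FlatA.FibreDim.fibreDimAt_eq, Groth.Agent.FlatA.FibreDim.fibreDimAt_eq]
  exact (Groth.Agent.FlatA.FibreDim.localDim_fibre_eq (j := (j : U → X)) j.isOpenEmbedding
    (i := (id : Y → Y)) Function.injective_id (f := (f : X → Y)) (g := ((j ≫ f : U ⟶ Y) : U → Y))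
    (fun a ↦ rfl) u).symm

section

variable {X Y : Scheme.{u}} {f : X ⟶ Y} {Ω' : X.Modules} {d : OmegaSh.Der f Ω'}

/-- Charts standard smooth of relative dimension `n`. -/
theorem nonempty_iso_of_chart (hd : OmegaSh.IsUniversal d) (n : ℕ) {V : Y.Opens} (hV : IsAffineOpen V)
    {W : X.Opens} (hW : IsAffineOpen W) (e : W ≤ f ⁻¹ᵁ V) (x : X) (hx : x ∈ W)
    (h : (f.appLE V W e).hom.IsStandardSmoothOfRelativeDimension n) :
    Nonempty (Ω'.restrict W.ι ≅ FlatMod.freeMod (W : Scheme.{u}) n) := by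
  let := (f.appLE V W e).hom.toAlgebra
  have h1 : Algebra.IsStandardSmoothOfRelativeDimension n Γ(Y, V) Γ(X, W) := h
  have h2 : Algebra.IsStandardSmooth Γ(Y, V) Γ(X, W) := h1.isStandardSmooth
  obtain ⟨ε, -⟩ := K583.UnivAffine.exists_kaehler_equiv hd hW hV e rfl
  have : Nonempty W := ⟨⟨x, hx⟩⟩
  have hnt : Nontrivial Γ(X, W) := inferInstance
  have hrk := Algebra.IsStandardSmoothOfRelativeDimension.rank_kaehlerDifferential (R := Γ(Y, V)) (S := Γ(X, W)) n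
  have hfr : finrank Γ(X, W) Ω[Γ(X, W)⁄Γ(Y, V)] = n := by
    rw [finrank, hrk]
    simp
  have hfin : Module.Finite Γ(X, W) Ω[Γ(X, W)⁄Γ(Y, V)] := inferInstance
  let b : Basis (Fin n) Γ(X, W) Γ(Ω', W) := (finBasisOfFinrankEq _ _ hfr).map ε
  rw [Groth.Agent.Ega2.BasSec.nonempty_restrict_iso_freeMod_iff]
  exact ⟨b, Groth.Agent.Ega2.BasSec.isBas_of_bijective
    (K583.UnivAffine.isQuasicoherent_of_isUniversal hd) hW
    ((Groth.Agent.Ega2.BasSec.comb_bijective_iff _).mpr ⟨b, rfl⟩)⟩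

/-- The sheaf of differentials near a smooth point. -/
theorem exists_free_of_smooth_nhd (hd : OmegaSh.IsUniversal d) (x : X)
    (hx : ∃ U : X.Opens, x ∈ U ∧ Smooth (U.ι ≫ f)) :
    ∃ (U : X.Opens) (n : ℕ), x ∈ U ∧ Nonempty (Ω'.restrict U.ι ≅ FlatMod.freeMod (U : Scheme.{u}) n) ∧
      FlatMor.fibreDimAt f x = (n : WithBot ℕ∞) := by
  obtain ⟨U, hxU, hU⟩ := hx
  obtain ⟨n, V, hxV, hV⟩ := Groth.Agent.Sga4h.BidRed538Geo.exists_relDim (U.ι ≫ f) ⟨x, hxU⟩
  let j : (V : Scheme.{u}) ⟶ X := V.ι ≫ U.ι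
  have hj : SmoothOfRelativeDimension n (j ≫ f) := by
    rw [Category.assoc]
    exact hV
  let v : V := ⟨⟨x, hxU⟩, hxV⟩
  have hv : j v = x := rfl
  have w : (j ≫ f) ≫ 𝟙 Y = j ≫ f := Category.comp_id _
  have hd' := K583.DerFunct.isUniversal_resDer w hd
  obtain ⟨Z, hZ, W, hW, hvW, e, hstd⟩ :=
    SmoothOfRelativeDimension.exists_isStandardSmoothOfRelativeDimension (n := n) (f := j ≫ f) v
  obtain ⟨i1⟩ := nonempty_iso_of_chart hd' n hZ hW e v hvW hstd
  have i2 : Ω'.restrict (W.ι ≫ j) ≅ FlatMod.freeMod (W : Scheme.{u}) n :=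
    Groth.Agent.Dcoh.FinLocFree.restrictComp Ω' W.ι j ≪≫ i1
  obtain ⟨i3⟩ := Groth.Agent.Dcoh.FinLocFree.exists_iso_of_isOpenImmersion (W.ι ≫ j) i2 le_rfl
  refine ⟨(W.ι ≫ j).opensRange, n, ⟨⟨v, hvW⟩, rfl⟩, ⟨i3⟩, ?_⟩
  rw [← hv, ← fibreDimAt_comp]
  exact Groth.Agent.S2768.result n (j ≫ f) v

/-- A chart `W → V` with `W` in a given open set. -/
theorem exists_chart_le {P : MorphismProperty Scheme.{u}}
    {Q : ∀ {R S : Type u} [CommRing R] [CommRing S], (R →+* S) → Prop} [HasRingHomProperty P Q]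
    [P.IsStableUnderBaseChange] (f : X ⟶ Y) (x : X) (U : X.Opens) (hxU : x ∈ U) (hU : P (U.ι ≫ f)) :
    ∃ (V : Y.Opens) (_ : IsAffineOpen V) (W : X.Opens) (_ : IsAffineOpen W) (e : W ≤ f ⁻¹ᵁ V),
      x ∈ W ∧ W ≤ U ∧ Q (f.appLE V W e).hom := by
  obtain ⟨V, hV, hxV, -⟩ := exists_isAffineOpen_mem_and_subset (x := f x) (U := ⊤) trivial
  obtain ⟨W, hW, hxW, hWU⟩ := exists_isAffineOpen_mem_and_subset (x := x) (U := U ⊓ f ⁻¹ᵁ V) ⟨hxU, hxV⟩
  have e : W ≤ f ⁻¹ᵁ V := fun y hy => (hWU hy).2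
  have e' : W ≤ U := fun y hy => (hWU hy).1
  refine ⟨V, hV, W, hW, e, hxW, e', ?_⟩
  have h1 : P (W.ι ≫ f) := by
    have h2 : W.ι ≫ f = X.homOfLE e' ≫ U.ι ≫ f := by simp
    rw [h2]
    exact IsZariskiLocalAtSource.comp hU _
  have h3 : P (f.resLE V W e) := by
    have h4 : f.resLE V W e ≫ V.ι = W.ι ≫ f := Scheme.Hom.resLE_comp_ι _ _
    rw [← h4] at h1
    exact P.of_isPullback (K134.SmoothStalk.isPullback_id_of_mono (f.resLE V W e) V.ι) h1
  have : IsAffine _ := hV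
  have : IsAffine _ := hW
  rw [HasRingHomProperty.iff_of_isAffine (P := P)] at h3
  exact ((HasRingHomProperty.isLocal_ringHomProperty P).respectsIso.arrow_mk_iso_iff
    (arrowResLEAppIso f V W e)).mp h3

/-- Flatness near a point of the flat locus. -/
theorem flat_nhd [LocallyOfFinitePresentation f] (x : X) (hfl : (f.stalkMap x).hom.Flat) :
    ∃ U : X.Opens, x ∈ U ∧ Flat (U.ι ≫ f) := by
  let F : X.Opens := ⟨{x : X | (f.stalkMap x).hom.Flat}, Groth.Agent.S0386.result f⟩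
  refine ⟨F, hfl, ?_⟩
  rw [Flat.iff_flat_stalkMap]
  intro z
  rw [Scheme.Hom.stalkMap_comp]
  have h1 : (f.stalkMap (F.ι z)).hom.Flat := z.2
  have h2 : (F.ι.stalkMap z).hom.Flat := (Flat.iff_flat_stalkMap F.ι).mp inferInstance z
  exact RingHom.Flat.comp h1 h2

/-- Smoothness from flatness and the rank of the differentials. -/
theorem formallySmooth_of_free [LocallyOfFinitePresentation f] (hd : OmegaSh.IsUniversal d) (x : X)
    (hfl : (f.stalkMap x).hom.Flat) (U : X.Opens) (n : ℕ) (hxU : x ∈ U)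
    (i : Ω'.restrict U.ι ≅ FlatMod.freeMod (U : Scheme.{u}) n)
    (hn : (n : WithBot ℕ∞) ≤ FlatMor.fibreDimAt f x) : (f.stalkMap x).hom.FormallySmooth := by
  obtain ⟨F, hxF, hF⟩ := flat_nhd x hfl
  have hF' : Flat ((F ⊓ U).ι ≫ f) := by
    have h2 : (F ⊓ U).ι ≫ f = X.homOfLE inf_le_left ≫ F.ι ≫ f := by simp
    rw [h2]
    infer_instance
  obtain ⟨V, hV, W, hW, e, hxW, hWU, h⟩ := exists_chart_le (P := @Flat) f x (F ⊓ U) ⟨hxF, hxU⟩ hF'
  replace hWU := hWU.trans inf_le_right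
  let := (f.appLE V W e).hom.toAlgebra
  have h1 : Module.Flat Γ(Y, V) Γ(X, W) := h
  have h2 : Algebra.FinitePresentation Γ(Y, V) Γ(X, W) := f.finitePresentation_appLE hV hW e
  obtain ⟨ε, -⟩ := K583.UnivAffine.exists_kaehler_equiv hd hW hV e rfl
  obtain ⟨i'⟩ := Groth.Agent.Dcoh.FinLocFree.exists_iso_of_le hWU i
  obtain ⟨s, hs⟩ := (Groth.Agent.Ega2.BasSec.nonempty_restrict_iso_freeMod_iff Ω' n W).mp ⟨i'⟩
  obtain ⟨b, -⟩ := (Groth.Agent.Ega2.BasSec.comb_bijective_iff s).mp hs.bijective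
  rw [formallySmooth_stalkMap_iff V hV W hW e hxW]
  refine K134.SmoothDimAlg.isSmoothAt_of_basis (hW.primeIdealOf ⟨x, hxW⟩) n (b.map ε.symm) ?_
  refine hn.trans (le_of_eq ?_)
  have h3 := Groth.Agent.FlatA.FibreDim.fibreDimAt_fromSpec f hV hW e (hW.primeIdealOf ⟨x, hxW⟩)
  rw [IsAffineOpen.fromSpec_primeIdealOf] at h3
  exact h3

/-- **Smoothness at a point in terms of the differentials.** -/
theorem mem_smoothLocus_iff [LocallyOfFinitePresentation f] (hd : OmegaSh.IsUniversal d) (x : X) :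
    x ∈ f.smoothLocus ↔ (f.stalkMap x).hom.Flat ∧
        ∃ (U : X.Opens) (n : ℕ), x ∈ U ∧ Nonempty (Ω'.restrict U.ι ≅ FlatMod.freeMod (↑U) n) ∧
          FlatMor.fibreDimAt f x = (n : WithBot ℕ∞) := by
  constructor
  · intro h
    exact ⟨Groth.Agent.Smoothlim.SmoothLocusBC.flat_stalkMap_of_mem_smoothLocus h,
      exists_free_of_smooth_nhd hd x ((K134.SmoothNhd.smooth_nhd_iff_formallySmooth f x).mpr h)⟩
  · rintro ⟨hfl, U, n, hxU, ⟨i⟩, hn⟩
    exact formallySmooth_of_free hd x hfl U n hxU i hn.ge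

end

end K134.OmegaRank
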