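import Groth.Agent.CalgB.RegHom5
import Groth.Agent.CalgC.RegSmooth
import Groth.Agent.UnramA.DescentPoint
import Groth.Agent.Flat2A.LocDevModel

/-!
# Geometrically regular points of algebras of finite type over a field are smooth
-/

set_option autoImplicit false
universe u

open TensorProduct IsLocalRing

namespace K134.GeomRegSmooth

attribute [local instance] Algebra.TensorProduct.rightAlgebra in
/-- **Geometrically regular points of algebras of finite type over a field are smooth.** -/
theorem isSmoothAt_of_isGeometricallyRegular {k C : Type u} [Field k] [CommRing C] [Algebra k C]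
    [Algebra.FiniteType k C] (p : Ideal C) [p.IsPrime]
    (h : CAlg.IsGeometricallyRegular k (Localization.AtPrime p)) : Algebra.IsSmoothAt k p := by
  let K := p.ResidueField
  have hfp : Algebra.FinitePresentation k C := Algebra.FinitePresentation.of_finiteType.mp inferInstance
  have hess : Algebra.EssFiniteType k K := by
    have : Algebra.EssFiniteType C K := inferInstance
    exact .comp _ C _
  have hreg : IsRegularRing (K ⊗[k] Localization.AtPrime p) :=
    Groth.Agent.CalgB.RegHom5.isRegularRing_tensor_of_essFiniteType K h
  let g : K ⊗[k] C →ₐ[K] K ⊗[k] Localization.AtPrime p :=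
    Algebra.TensorProduct.map (AlgHom.id K K) (IsScalarTower.toAlgHom k C (Localization.AtPrime p))
  let : Algebra (K ⊗[k] C) (K ⊗[k] Localization.AtPrime p) := g.toRingHom.toAlgebra
  have htower : IsScalarTower K (K ⊗[k] C) (K ⊗[k] Localization.AtPrime p) :=
    .of_algebraMap_eq' g.comp_algebraMap.symm
  let ρ : K ⊗[k] Localization.AtPrime p →ₐ[K] K :=
    Algebra.TensorProduct.lift (AlgHom.id K K) (IsScalarTower.toAlgHom k (Localization.AtPrime p) K)
      (fun _ _ ↦ Commute.all _ _)
  let Q' := RingHom.ker ρ.toRingHom
  have hQ' : Q'.IsPrime := RingHom.ker_isPrime _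
  let Q := Q'.comap (algebraMap (K ⊗[k] C) (K ⊗[k] Localization.AtPrime p))
  have hQ : Q.IsPrime := inferInstance
  have hloc : IsLocalization (p.primeCompl.map (Algebra.TensorProduct.includeRight (R := k) (A := K)))
      (K ⊗[k] Localization.AtPrime p) := by
    refine IsLocalization.tensorProduct_tensorProduct_right k K p.primeCompl (Localization.AtPrime p) ?_
    ext c
    change g (1 ⊗ₜ c) = 1 ⊗ₜ algebraMap C (Localization.AtPrime p) c
    simp [g]
  have hloc2 : IsLocalization.AtPrime (Localization.AtPrime Q') Q :=
    IsLocalization.isLocalization_isLocalization_atPrime_isLocalization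
      (p.primeCompl.map (Algebra.TensorProduct.includeRight (R := k) (A := K))) (Localization.AtPrime Q') Q'
  have h1 : IsRegularLocalRing (Localization.AtPrime Q') := inferInstance
  have h2 : IsRegularLocalRing (Localization.AtPrime Q) :=
    IsRegularLocalRing.of_ringEquiv (R := Localization.AtPrime Q')
      (IsLocalization.algEquiv Q.primeCompl (Localization.AtPrime Q') (Localization.AtPrime Q)).toRingEquiv
  have h3 : ∀ t : K ⊗[k] C, algebraMap (K ⊗[k] C) Q.ResidueField t = algebraMap K Q.ResidueField (ρ (g t)) := by
    intro t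
    rw [IsScalarTower.algebraMap_apply K (K ⊗[k] C) Q.ResidueField, ← sub_eq_zero, ← map_sub,
      Ideal.algebraMap_residueField_eq_zero]
    change ρ (g _) = 0
    rw [map_sub, map_sub, AlgHom.commutes, AlgHom.commutes]
    simp
  have h4 : Function.Bijective (Algebra.ofId K Q.ResidueField) := by
    refine ⟨(algebraMap K Q.ResidueField).injective, fun y ↦ ?_⟩
    obtain ⟨a, b, hb, rfl⟩ := IsFractionRing.div_surjective (A := (K ⊗[k] C) ⧸ Q) y
    obtain ⟨a, rfl⟩ := Ideal.Quotient.mk_surjective a
    obtain ⟨b, rfl⟩ := Ideal.Quotient.mk_surjective b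
    refine ⟨ρ (g a) / ρ (g b), ?_⟩
    rw [Algebra.ofId_apply, map_div₀, ← h3, ← h3]
    rfl
  have h5 : Algebra.FormallySmooth K Q.ResidueField :=
    .of_equiv (AlgEquiv.ofBijective (Algebra.ofId K Q.ResidueField) h4)
  have h6 : Algebra.IsSmoothAt K Q := Groth.Agent.CalgC.RegSmooth.isSmoothAt_of_isRegularLocalRing Q h2
  have h7 : Q.LiesOver p := by
    constructor
    ext c
    change _ ↔ ρ (g (1 ⊗ₜ c)) = 0
    rw [← Ideal.algebraMap_residueField_eq_zero,
      IsScalarTower.algebraMap_apply C (Localization.AtPrime p) p.ResidueField,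
      show ρ (g (1 ⊗ₜ c)) = algebraMap (Localization.AtPrime p) K (algebraMap C (Localization.AtPrime p) c) by
        simp only [g, ρ, Algebra.TensorProduct.map_tmul, Algebra.TensorProduct.lift_tmul, map_one, one_mul]
        rfl]
  exact Groth.Agent.UnramA.DescentPoint.isSmoothAt_of_tensorProduct Q p

/-- Geometric regularity is invariant under isomorphisms. -/
theorem isGeometricallyRegular_of_algEquiv {k S T : Type u} [Field k] [CommRing S] [CommRing T] [Algebra k S]
    [Algebra k T] (e : S ≃ₐ[k] T) (h : CAlg.IsGeometricallyRegular k S) : CAlg.IsGeometricallyRegular k T := by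
  intro k' _ _ hfin
  have := h k' hfin
  exact IsRegularRing.of_ringEquiv (Algebra.TensorProduct.congr (AlgEquiv.refl (R := k) (A₁ := k')) e).toRingEquiv

/-- **Geometrically regular local algebras essentially of finite type over a field are formally smooth.** -/
theorem formallySmooth_of_isGeometricallyRegular {k D : Type u} [Field k] [CommRing D] [IsLocalRing D] [Algebra k D]
    [Algebra.EssFiniteType k D] (h : CAlg.IsGeometricallyRegular k D) : Algebra.FormallySmooth k D := by
  obtain ⟨S, -, hS, hloc⟩ := Groth.Agent.Flat2A.LocDev.exists_model k D ∅ Set.finite_empty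
  let p := (maximalIdeal D).comap (algebraMap S D)
  let e : D ≃ₐ[S] Localization.AtPrime p := IsLocalization.algEquiv p.primeCompl D (Localization.AtPrime p)
  have h1 := isGeometricallyRegular_of_algEquiv (e.restrictScalars k) h
  have h2 : Algebra.FormallySmooth k (Localization.AtPrime p) := isSmoothAt_of_isGeometricallyRegular p h1
  exact .of_equiv (e.restrictScalars k).symm

variable {A B : Type u} [CommRing A] [IsLocalRing A] [CommRing B] [Algebra A B]

/-- The two forms of the closed fibre. -/
theorem exists_equiv [Algebra (ResidueField A) (B ⧸ (maximalIdeal A).map (algebraMap A B))]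
    (hc : ∀ a : A, algebraMap (ResidueField A) (B ⧸ (maximalIdeal A).map (algebraMap A B)) (residue A a) =
      Ideal.Quotient.mk _ (algebraMap A B a)) :
    Nonempty ((B ⧸ (maximalIdeal A).map (algebraMap A B)) ≃ₐ[ResidueField A] (ResidueField A ⊗[A] B)) := by
  let e := (Algebra.TensorProduct.quotIdealMapEquivQuotTensor B (maximalIdeal A)).toRingEquiv
  refine ⟨AlgEquiv.ofRingEquiv (f := e) fun a ↦ ?_⟩
  obtain ⟨a, rfl⟩ := residue_surjective a
  rw [hc]
  change Algebra.TensorProduct.quotIdealMapEquivQuotTensor B (maximalIdeal A) _ = _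
  rw [Algebra.TensorProduct.quotIdealMapEquivQuotTensor_mk]
  change (1 : ResidueField A) ⊗ₜ[A] algebraMap A B a = algebraMap A (ResidueField A) a ⊗ₜ[A] (1 : B)
  rw [Algebra.algebraMap_eq_smul_one, Algebra.algebraMap_eq_smul_one, TensorProduct.smul_tmul]

/-- **Flat local algebras essentially of finite type over a Noetherian local ring with geometrically regular
closed fibre are formally smooth.** -/
theorem formallySmooth_of_flat [IsNoetherianRing A] [IsLocalRing B] [IsLocalHom (algebraMap A B)]
    [Algebra.EssFiniteType A B] [Module.Flat A B]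
    (h : CAlg.IsGeometricallyRegular (ResidueField A) (ResidueField A ⊗[A] B)) : Algebra.FormallySmooth A B := by
  obtain ⟨S, -, hS, hloc⟩ := Groth.Agent.Flat2A.LocDev.exists_model A B ∅ Set.finite_empty
  have hS' : Algebra.FinitePresentation A S := Algebra.FinitePresentation.of_finiteType.mp hS
  have h1 : IsLocalRing (ResidueField A ⊗[A] B) := inferInstance
  have h2 := formallySmooth_of_isGeometricallyRegular h
  exact Algebra.FormallySmooth.of_formallySmooth_residueField_tensor (P := S)
    ((maximalIdeal B).comap (algebraMap S B)).primeCompl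

end K134.GeomRegSmooth
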