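import Groth.Agent.UnramA.Locus
import Mathlib.RingTheory.Unramified.LocalRing
import Mathlib.AlgebraicGeometry.Morphisms.UniversallyInjective
import Mathlib.AlgebraicGeometry.Morphisms.FormallyUnramified
import Mathlib.AlgebraicGeometry.Morphisms.FiniteType

/-!
# Monomorphisms locally of finite type in terms of the fibres
-/

set_option autoImplicit false
universe u

open CategoryTheory CategoryTheory.Limits AlgebraicGeometry IsLocalRing

namespace K134.MonoFib

/-- For a local homomorphism `R → S`, the map `κ(R) → S / m_R S` is bijective iff `m_R S = m_S` and `κ(R) → κ(S)` is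
surjective. -/
theorem bijective_quotientMap_iff {R S : Type*} [CommRing R] [CommRing S] [IsLocalRing R] [IsLocalRing S]
    (φ : R →+* S) [IsLocalHom φ] :
    Function.Bijective (Ideal.quotientMap ((maximalIdeal R).map φ) φ Ideal.le_comap_map) ↔
      (maximalIdeal R).map φ = maximalIdeal S ∧ Function.Surjective (ResidueField.map φ) := by
  have hle : (maximalIdeal R).map φ ≤ maximalIdeal S :=
    ((IsLocalRing.local_hom_TFAE φ).out 0 2).mp ‹_›
  constructor
  · intro h
    have hmax : ((maximalIdeal R).map φ).IsMaximal := by
      apply Ideal.Quotient.maximal_of_isField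
      have h1 : IsField (R ⧸ maximalIdeal R) := (Ideal.Quotient.field (maximalIdeal R)).toIsField
      exact (RingEquiv.ofBijective _ h).symm.toMulEquiv.isField h1
    refine ⟨IsLocalRing.eq_maximalIdeal hmax, ?_⟩
    intro s
    obtain ⟨s, rfl⟩ := residue_surjective s
    obtain ⟨r, hr⟩ := h.2 (Ideal.Quotient.mk _ s)
    obtain ⟨r, rfl⟩ := Ideal.Quotient.mk_surjective r
    refine ⟨residue R r, ?_⟩
    rw [ResidueField.map_residue]
    rw [Ideal.quotientMap_mk, Ideal.Quotient.eq] at hr
    exact Ideal.Quotient.eq.mpr (hle hr)
  · rintro ⟨h1, h2⟩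
    have : Nontrivial (S ⧸ (maximalIdeal R).map φ) := by
      rw [h1]; exact Ideal.Quotient.nontrivial_iff.mpr (Ideal.IsMaximal.ne_top inferInstance)
    constructor
    · let := Ideal.Quotient.field (maximalIdeal R)
      exact RingHom.injective _
    · intro s
      obtain ⟨s, rfl⟩ := Ideal.Quotient.mk_surjective s
      obtain ⟨r, hr⟩ := h2 (residue S s)
      obtain ⟨r, rfl⟩ := residue_surjective r
      refine ⟨Ideal.Quotient.mk _ r, ?_⟩
      rw [Ideal.quotientMap_mk, Ideal.Quotient.eq, h1]
      rw [ResidueField.map_residue] at hr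
      exact Ideal.Quotient.eq.mp hr

variable {X Y : Scheme.{u}} (f : X ⟶ Y)

/-- Monomorphisms locally of finite type. -/
theorem mono_iff [LocallyOfFiniteType f] :
    Mono f ↔ UniversallyInjective f ∧ FormallyUnramified f := by
  constructor
  · intro h
    exact ⟨inferInstance, inferInstance⟩
  · rintro ⟨h1, h2⟩
    have h3 : Surjective (pullback.diagonal f) := (UniversallyInjective.iff_diagonal f).mp h1
    have h4 : IsOpenImmersion (pullback.diagonal f) := inferInstance
    have h5 : IsIso (pullback.diagonal f) := (isIso_iff_isOpenImmersion_and_surjective _).mpr ⟨h4, h3⟩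
    exact (pullback.isIso_diagonal_iff f).mp h5

/-- Formal unramifiedness in terms of the stalks. -/
theorem formallyUnramified_iff_stalkMap [LocallyOfFiniteType f] :
    FormallyUnramified f ↔ ∀ x : X, (f.stalkMap x).hom.FormallyUnramified := by
  constructor
  · intro h x
    exact FormallyUnramified.stalkMap f x
  · intro h
    choose U hxU hU using fun x => (Groth.Agent.UnramA.Locus.unramified_nhd_iff f x).mpr (h x)
    refine (IsZariskiLocalAtSource.iff_of_iSup_eq_top (P := @FormallyUnramified) U ?_).mpr hU
    rw [eq_top_iff]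
    intro x _
    exact TopologicalSpace.Opens.mem_iSup.mpr ⟨x, hxU x⟩

/-- Unramifiedness of the stalk map. -/
theorem stalkMap_formallyUnramified_iff [LocallyOfFiniteType f] (x : X) :
    letI := (ResidueField.map (f.stalkMap x).hom).toAlgebra
    (f.stalkMap x).hom.FormallyUnramified ↔
      Algebra.IsSeparable (ResidueField (Y.presheaf.stalk (f x))) (ResidueField (X.presheaf.stalk x)) ∧
        (maximalIdeal (Y.presheaf.stalk (f x))).map (f.stalkMap x).hom = maximalIdeal (X.presheaf.stalk x) := by
  have h1 : (f.stalkMap x).hom.EssFiniteType := LocallyOfFiniteType.stalkMap f x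
  algebraize [(f.stalkMap x).hom]
  have : IsLocalHom (algebraMap (Y.presheaf.stalk (f x)) (X.presheaf.stalk x)) :=
    inferInstanceAs (IsLocalHom (f.stalkMap x).hom)
  have key : (inferInstance : Algebra (ResidueField (Y.presheaf.stalk (f x)))
      (ResidueField (X.presheaf.stalk x))) = (ResidueField.map (f.stalkMap x).hom).toAlgebra := by
    refine Algebra.algebra_ext _ _ fun r => ?_
    obtain ⟨r, rfl⟩ := residue_surjective r
    rfl
  have h2 := Algebra.FormallyUnramified.iff_map_maximalIdeal_eq (R := Y.presheaf.stalk (f x))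
    (S := X.presheaf.stalk x)
  rw [← key]
  exact h2

/-- **Monomorphisms locally of finite type in terms of the fibres.** -/
theorem mono_iff_fibers [LocallyOfFiniteType f] :
    Mono f ↔ ∀ x : X, (∀ x' : X, f x' = f x → x' = x) ∧
      Function.Bijective (Ideal.quotientMap ((maximalIdeal (Y.presheaf.stalk (f x))).map (f.stalkMap x).hom)
        (f.stalkMap x).hom Ideal.le_comap_map) := by
  have h0 := (tfae_universallyInjective f).out 0 2
  rw [mono_iff, formallyUnramified_iff_stalkMap, h0]
  constructor
  · rintro ⟨⟨h1, h2⟩, h3⟩ x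
    refine ⟨fun x' h => h1 h, (bijective_quotientMap_iff _).mpr ?_⟩
    obtain ⟨h4, h5⟩ := (stalkMap_formallyUnramified_iff f x).mp (h3 x)
    refine ⟨h5, ?_⟩
    have h6 := h2 x
    let := (ResidueField.map (f.stalkMap x).hom).toAlgebra
    have h7 : IsPurelyInseparable (ResidueField (Y.presheaf.stalk (f x))) (ResidueField (X.presheaf.stalk x)) := h6
    exact IsPurelyInseparable.surjective_algebraMap_of_isSeparable (ResidueField (Y.presheaf.stalk (f x)))
      (ResidueField (X.presheaf.stalk x))
  · intro H
    have H' := fun x => (bijective_quotientMap_iff _).mp (H x).2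
    refine ⟨⟨fun x x' h => (H x').1 x h, fun x => ?_⟩, fun x => ?_⟩
    · let := (ResidueField.map (f.stalkMap x).hom).toAlgebra
      change IsPurelyInseparable (ResidueField (Y.presheaf.stalk (f x))) (ResidueField (X.presheaf.stalk x))
      have hs' : Function.Surjective (algebraMap (ResidueField (Y.presheaf.stalk (f x)))
        (ResidueField (X.presheaf.stalk x))) := (H' x).2
      refine ⟨⟨fun a => ?_⟩, fun a _ => hs' a⟩
      obtain ⟨b, rfl⟩ := hs' a
      exact isIntegral_algebraMap
    · refine (stalkMap_formallyUnramified_iff f x).mpr ⟨?_, (H' x).1⟩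
      let := (ResidueField.map (f.stalkMap x).hom).toAlgebra
      have hs' : Function.Surjective (algebraMap (ResidueField (Y.presheaf.stalk (f x)))
        (ResidueField (X.presheaf.stalk x))) := (H' x).2
      refine ⟨fun a => ?_⟩
      obtain ⟨b, rfl⟩ := hs' a
      exact isSeparable_algebraMap b

end K134.MonoFib
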