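import Groth.Agent.Unram17.K134.ResDiff
import Groth.Agent.S2141
import Groth.Agent.S2790
import Groth.Agent.CalgC.RegSmooth

/-!
# Regular points with separable residue field
-/

set_option autoImplicit false
universe u

open KaehlerDifferential IsLocalRing Module TensorProduct

namespace K134.RegSep

/-- Regular points with separable residue field in terms of parameters. -/
theorem regular_sep_iff (k A : Type u) [Field k]
    [CommRing A] [Algebra k A] [Algebra.FiniteType k A] (n r : ℕ) (p : Ideal A) [p.IsPrime]
    (hn : FlatMor.localDim (PrimeSpectrum A) ⟨p, inferInstance⟩ = (n : WithBot ℕ∞))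
    (hr : ringKrullDim (Localization.AtPrime p) = (r : WithBot ℕ∞)) :
    (IsRegularLocalRing (Localization.AtPrime p) ∧ Algebra.IsGeometricallyReduced k p.ResidueField) ↔
      ∃ g : Fin n → Localization.AtPrime p,
        Ideal.span (g '' {i : Fin n | (i : ℕ) < r}) = IsLocalRing.maximalIdeal (Localization.AtPrime p) ∧
          Submodule.span p.ResidueField ((fun i : Fin n =>
            KaehlerDifferential.D k p.ResidueField (IsLocalRing.residue (Localization.AtPrime p) (g i))) ''
              {i : Fin n | r ≤ (i : ℕ)}) = ⊤ := by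
  have hess : Algebra.EssFiniteType k p.ResidueField := by
    have : Algebra.EssFiniteType A p.ResidueField := inferInstance
    exact .comp _ A _
  have hnoeth : IsNoetherianRing A := Algebra.FiniteType.isNoetherianRing k A
  obtain ⟨s, hs⟩ := K134.ResDiff.exists_trdeg k p.ResidueField
  have h1 := Groth.Agent.S2141.result (k := k) p s hs
  rw [hn, hr] at h1
  have hnrs : n = r + s := by exact_mod_cast h1
  have hts : Cardinal.toNat (Algebra.trdeg k p.ResidueField) = s := by rw [hs]; simp
  have hfin : Module.Finite p.ResidueField Ω[p.ResidueField⁄k] := inferInstance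
  obtain ⟨-, -, hcart⟩ := Groth.Agent.S2469.result (K := k) (L := p.ResidueField)
  rw [hts] at hcart
  rw [← Groth.Agent.CalgC.SepDiff.formallySmooth_iff_isGeometricallyReduced,
    K134.ResDiff.formallySmooth_iff_finrank_le, hts]
  constructor
  · rintro ⟨hreg, hle⟩
    have hse : finrank p.ResidueField Ω[p.ResidueField⁄k] = s := by omega
    obtain ⟨a, ha⟩ := K134.ResDiff.exists_span_eq r hr
    obtain ⟨b, hb⟩ := K134.ResDiff.exists_diff_gens k p.ResidueField
    choose c hc using fun i ↦ IsLocalRing.residue_surjective (b i)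
    refine ⟨fun i ↦ if h : (i : ℕ) < r then a ⟨i, h⟩ else c ⟨i - r, by omega⟩, ?_, ?_⟩
    · rw [← ha]
      congr 1
      ext x
      simp only [Set.mem_image, Set.mem_range, Set.mem_ofPred_eq]
      constructor
      · rintro ⟨i, hi, rfl⟩
        exact ⟨⟨i, hi⟩, by simp [hi]⟩
      · rintro ⟨i, rfl⟩
        exact ⟨⟨i, by omega⟩, i.2, by simp⟩
    · rw [← hb]
      congr 1
      ext x
      simp only [Set.mem_image, Set.mem_range, Set.mem_ofPred_eq]
      constructor
      · rintro ⟨i, hi, rfl⟩
        exact ⟨⟨i - r, by omega⟩, by rw [dif_neg (by omega), hc]⟩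
      · rintro ⟨i, rfl⟩
        refine ⟨⟨r + i, by omega⟩, by simp, ?_⟩
        rw [dif_neg (by simp), hc]
        simp
  · rintro ⟨g, hg1, hg2⟩
    refine ⟨K134.ResDiff.isRegularLocalRing_of_span n r hr g hg1, ?_⟩
    rw [← finrank_top, ← hg2]
    have hfi := Fintype.ofFinite ((fun i : Fin n ↦ (D k p.ResidueField) ((residue (Localization.AtPrime p)) (g i))) ''
      {i | r ≤ (i : ℕ)})
    refine (finrank_span_le_card _).trans ?_
    rw [← Set.ncard_eq_toFinset_card']
    refine (Set.ncard_image_le (Set.toFinite _)).trans ((K134.ResDiff.ncard_le n r).trans ?_)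
    omega

section Local

variable {k R : Type u} [CommRing k] [CommRing R] [IsLocalRing R] [Algebra k R]

omit [CommRing k] [Algebra k R] in
lemma mem_smul_of_tmul_eq_zero {M : Type*} [AddCommGroup M] [Module R M] (y : M)
    (h : (1 : ResidueField R) ⊗ₜ[R] y = 0) : y ∈ maximalIdeal R • (⊤ : Submodule R M) := by
  have h5 : quotTensorEquivQuotSMul M (maximalIdeal R) ((1 : R ⧸ maximalIdeal R) ⊗ₜ y) = 0 := by
    have h6 : ((1 : R ⧸ maximalIdeal R) ⊗ₜ[R] y) = 0 := h
    rw [h6, map_zero]
  rwa [quotTensorEquivQuotSMul_mk_one_tmul, Submodule.Quotient.mk_eq_zero] at h5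

/-- The kernel of `Ω_R → Ω_κ`. -/
theorem mem_of_map_eq_zero (x : Ω[R⁄k]) (hx : KaehlerDifferential.map k k R (ResidueField R) x = 0) :
    x ∈ Submodule.span R (D k R '' (maximalIdeal R : Set R)) ⊔ maximalIdeal R • (⊤ : Submodule R Ω[R⁄k]) := by
  have h1 := KaehlerDifferential.exact_kerCotangentToTensor_mapBaseChange k R (ResidueField R) residue_surjective
  have h2 : mapBaseChange k R (ResidueField R) (1 ⊗ₜ x) = 0 := by
    rw [mapBaseChange_tmul, hx, smul_zero]
  obtain ⟨c, hc⟩ := (h1 _).mp h2
  obtain ⟨z, rfl⟩ := Ideal.toCotangent_surjective _ c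
  rw [kerCotangentToTensor_toCotangent] at hc
  have hz : (z : R) ∈ maximalIdeal R := by
    have h6 : residue R (z : R) = 0 := z.2
    rwa [residue_eq_zero_iff] at h6
  have h3 : (1 : ResidueField R) ⊗ₜ[R] (x - D k R (z : R)) = 0 := by
    rw [TensorProduct.tmul_sub, hc, sub_self]
  have h4 : x - D k R (z : R) ∈ maximalIdeal R • (⊤ : Submodule R Ω[R⁄k]) :=
    mem_smul_of_tmul_eq_zero _ h3
  rw [← sub_add_cancel x (D k R (z : R)), add_comm]
  exact Submodule.add_mem_sup (Submodule.subset_span ⟨_, hz, rfl⟩) h4

/-- Generation of the differentials of a local ring by Nakayama. -/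
theorem span_eq_top [Module.Finite R Ω[R⁄k]] (n r : ℕ) (g : Fin n → R)
    (h1 : Ideal.span (g '' {i : Fin n | (i : ℕ) < r}) = maximalIdeal R)
    (h2 : Submodule.span (ResidueField R) ((fun i : Fin n => D k (ResidueField R) (residue R (g i))) ''
      {i : Fin n | r ≤ (i : ℕ)}) = ⊤) :
    Submodule.span R (Set.range fun i : Fin n ↦ D k R (g i)) = ⊤ := by
  set N := Submodule.span R (Set.range fun i : Fin n ↦ D k R (g i)) with hN
  have hm : ∀ z ∈ maximalIdeal R, D k R z ∈ N ⊔ maximalIdeal R • (⊤ : Submodule R Ω[R⁄k]) := by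
    intro z hz
    rw [← h1] at hz
    have hz0 : z ∈ maximalIdeal R := h1 ▸ hz
    induction hz using Submodule.span_induction with
    | mem x hx =>
      obtain ⟨i, -, rfl⟩ := hx
      exact Submodule.mem_sup_left (Submodule.subset_span ⟨i, rfl⟩)
    | zero => simp
    | add x y hx hy ihx ihy =>
      rw [map_add]
      exact add_mem (ihx (h1 ▸ hx)) (ihy (h1 ▸ hy))
    | smul a x hx ih =>
      rw [smul_eq_mul, Derivation.leibniz]
      have hx0 : x ∈ maximalIdeal R := h1 ▸ hx
      exact add_mem (Submodule.smul_mem _ _ (ih hx0))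
        (Submodule.mem_sup_right (Submodule.smul_mem_smul hx0 trivial))
  have key : (⊤ : Submodule R Ω[R⁄k]) ≤ N ⊔ maximalIdeal R • (⊤ : Submodule R Ω[R⁄k]) := by
    intro x _
    have h3 : KaehlerDifferential.map k k R (ResidueField R) x ∈ Submodule.span (ResidueField R)
        ((fun i : Fin n => D k (ResidueField R) (residue R (g i))) '' {i : Fin n | r ≤ (i : ℕ)}) := h2 ▸ trivial
    have h4 : ∀ y ∈ Submodule.span (ResidueField R)
        ((fun i : Fin n => D k (ResidueField R) (residue R (g i))) '' {i : Fin n | r ≤ (i : ℕ)}),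
        ∃ y' ∈ N, KaehlerDifferential.map k k R (ResidueField R) y' = y := by
      intro y hy
      induction hy using Submodule.span_induction with
      | mem x hx =>
        obtain ⟨i, -, rfl⟩ := hx
        exact ⟨D k R (g i), Submodule.subset_span ⟨i, rfl⟩, by rw [map_D]; rfl⟩
      | zero => exact ⟨0, zero_mem _, map_zero _⟩
      | add x y _ _ ihx ihy =>
        obtain ⟨x', hx', rfl⟩ := ihx
        obtain ⟨y', hy', rfl⟩ := ihy
        exact ⟨x' + y', add_mem hx' hy', map_add _ _ _⟩
      | smul a x _ ih =>
        obtain ⟨x', hx', rfl⟩ := ih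
        obtain ⟨a, rfl⟩ := residue_surjective a
        exact ⟨a • x', Submodule.smul_mem _ _ hx', by rw [LinearMap.map_smul]; rfl⟩
    obtain ⟨y', hy', hxy⟩ := h4 _ h3
    have h5 := mem_of_map_eq_zero (x - y') (by rw [map_sub, hxy, sub_self])
    have h6 : Submodule.span R (D k R '' (maximalIdeal R : Set R)) ≤
        N ⊔ maximalIdeal R • (⊤ : Submodule R Ω[R⁄k]) := by
      rw [Submodule.span_le]
      rintro _ ⟨z, hz, rfl⟩
      exact hm z hz
    have h7 := (sup_le h6 le_sup_right) h5
    rw [← sub_add_cancel x y']
    exact add_mem h7 (Submodule.mem_sup_left hy')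
  have h8 := Submodule.le_of_le_smul_of_le_jacobson_bot (Module.Finite.fg_top (R := R) (M := Ω[R⁄k]))
    (maximalIdeal_le_jacobson _) key
  exact top_le_iff.mp h8

omit [CommRing k] [Algebra k R] in
lemma tmul_smul_eq_zero {M : Type*} [AddCommGroup M] [Module R M] {x : R} (hx : x ∈ maximalIdeal R) (y : M) :
    (1 : ResidueField R) ⊗ₜ[R] (x • y) = 0 := by
  rw [← TensorProduct.smul_tmul, Algebra.smul_def, mul_one, ResidueField.algebraMap_eq,
    (residue_eq_zero_iff x).mpr hx, TensorProduct.zero_tmul]

end Local

section Local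

variable {k R : Type u} [CommRing k] [CommRing R] [Algebra k R] [IsRegularLocalRing R]

/-- Coordinates in the maximal ideal of a regular local ring with differentials part of a basis generate the
maximal ideal. -/
theorem span_eq_maximalIdeal (n r : ℕ) (hrn : r ≤ n)
    (hr : ringKrullDim R = (r : WithBot ℕ∞)) (b : Basis (Fin n) R Ω[R⁄k]) (g : Fin n → R)
    (hb : ∀ i, b i = D k R (g i)) (hg : ∀ i : Fin n, (i : ℕ) < r → g i ∈ maximalIdeal R) :
    Ideal.span (g '' {i : Fin n | (i : ℕ) < r}) = maximalIdeal R := by
  let w : Fin r → maximalIdeal R := fun i ↦ ⟨g ⟨i, by omega⟩, hg _ i.2⟩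
  let v : Fin r → CotangentSpace R := fun i ↦ (maximalIdeal R).toCotangent (w i)
  let bb := b.baseChange (ResidueField R)
  have hv : LinearIndependent (ResidueField R) v := by
    rw [Fintype.linearIndependent_iff]
    intro c hc
    choose a ha using fun i ↦ residue_surjective (c i)
    have h1 : ∑ i, a i • v i = 0 := by
      rw [← hc]
      refine Finset.sum_congr rfl fun i _ ↦ ?_
      rw [← ha]
      rfl
    have h2 : ∑ i, a i • (w i) ∈ LinearMap.ker (maximalIdeal R).toCotangent := by
      rw [LinearMap.mem_ker, map_sum]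
      simpa only [map_smul] using h1
    have h3 : (1 : ResidueField R) ⊗ₜ[R] D k R (((∑ i, a i • (w i) : maximalIdeal R) : R)) = 0 := by
      have h4 : (maximalIdeal R).toCotangent (∑ i, a i • (w i)) = 0 := h2
      rw [Ideal.toCotangent_eq_zero] at h4
      have h5 : ∀ z ∈ (maximalIdeal R) ^ 2, (1 : ResidueField R) ⊗ₜ[R] D k R z = 0 := by
        intro z hz
        rw [pow_two] at hz
        induction hz using Submodule.mul_induction_on' with
        | mem_mul_mem x hx y hy =>
          rw [Derivation.leibniz, TensorProduct.tmul_add, tmul_smul_eq_zero hx, tmul_smul_eq_zero hy, add_zero]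
        | add x _ y _ hx hy => rw [map_add, TensorProduct.tmul_add, hx, hy, add_zero]
      exact h5 _ h4
    have h6 : ∑ i : Fin r, c i • bb ⟨i, by omega⟩ = 0 := by
      rw [← h3, AddSubmonoidClass.coe_finsetSum, map_sum, TensorProduct.tmul_sum]
      refine Finset.sum_congr rfl fun i _ ↦ ?_
      rw [Submodule.coe_smul, smul_eq_mul, Derivation.leibniz, TensorProduct.tmul_add,
        tmul_smul_eq_zero (w i).2, add_zero, Basis.baseChange_apply, hb, ← ha, TensorProduct.smul_tmul',
        ← TensorProduct.smul_tmul]
      rfl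
    have h7 : LinearIndependent (ResidueField R) (fun i : Fin r ↦ bb ⟨i, by omega⟩) :=
      bb.linearIndependent.comp _ fun i j hij ↦ by simpa [Fin.ext_iff] using hij
    exact Fintype.linearIndependent_iff.mp h7 c h6
  have hfr : finrank (ResidueField R) (CotangentSpace R) = r := by
    rw [← spanFinrank_maximalIdeal_eq_finrank_cotangentSpace]
    have h1 := (isRegularLocalRing_iff R).mp inferInstance
    rw [hr] at h1
    exact_mod_cast h1
  have h1 : Submodule.span (ResidueField R) (Set.range v) = ⊤ :=
    hv.span_eq_top_of_card_eq_finrank' (by rw [hfr, Fintype.card_fin])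
  have h2 : Submodule.span R (Set.range w) = ⊤ := by
    rw [← CotangentSpace.span_image_eq_top_iff, ← Set.range_comp]
    exact h1
  have h3 := congrArg (Submodule.map (maximalIdeal R).subtype) h2
  rw [Submodule.map_span, Submodule.map_top, Submodule.range_subtype, ← Set.range_comp] at h3
  refine Eq.trans ?_ h3
  change Submodule.span R _ = _
  congr 1
  ext x
  simp only [Set.mem_image, Set.mem_range, Set.mem_ofPred_eq, Function.comp]
  constructor
  · rintro ⟨i, hi, rfl⟩
    exact ⟨⟨i, hi⟩, rfl⟩
  · rintro ⟨i, rfl⟩
    exact ⟨⟨i, by omega⟩, i.2, rfl⟩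

end Local

/-- Étale coordinates adapted to a point. -/
theorem isEtaleAt_iff (k A : Type u) [Field k]
    [CommRing A] [Algebra k A] [Algebra.FiniteType k A] (n r : ℕ) [Algebra (MvPolynomial (Fin n) k) A]
    [IsScalarTower k (MvPolynomial (Fin n) k) A] (p : Ideal A) [p.IsPrime]
    (hn : FlatMor.localDim (PrimeSpectrum A) ⟨p, inferInstance⟩ = (n : WithBot ℕ∞))
    (hr : ringKrullDim (Localization.AtPrime p) = (r : WithBot ℕ∞))
    (hg : ∀ i : Fin n, (i : ℕ) < r → algebraMap (MvPolynomial (Fin n) k) A (MvPolynomial.X i) ∈ p) :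
    Algebra.IsEtaleAt (MvPolynomial (Fin n) k) p ↔
      Ideal.span ((fun i : Fin n =>
          algebraMap A (Localization.AtPrime p) (algebraMap (MvPolynomial (Fin n) k) A (MvPolynomial.X i))) ''
            {i : Fin n | (i : ℕ) < r}) = IsLocalRing.maximalIdeal (Localization.AtPrime p) ∧
        Submodule.span p.ResidueField ((fun i : Fin n =>
          KaehlerDifferential.D k p.ResidueField
            (IsLocalRing.residue (Localization.AtPrime p)
              (algebraMap A (Localization.AtPrime p) (algebraMap (MvPolynomial (Fin n) k) A (MvPolynomial.X i))))) ''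
            {i : Fin n | r ≤ (i : ℕ)}) = ⊤ := by
  have hnoeth : IsNoetherianRing A := Algebra.FiniteType.isNoetherianRing k A
  have hess : Algebra.EssFiniteType k (Localization.AtPrime p) := by
    have : Algebra.EssFiniteType A (Localization.AtPrime p) := inferInstance
    exact .comp _ A _
  have hfin : Module.Finite (Localization.AtPrime p) Ω[Localization.AtPrime p⁄k] := inferInstance
  let g : Fin n → Localization.AtPrime p := fun i ↦
    algebraMap A (Localization.AtPrime p) (algebraMap (MvPolynomial (Fin n) k) A (MvPolynomial.X i))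
  constructor
  · intro het
    have hspan := (Groth.Agent.S2790.result k A n p hn).mp het
    have hess' : Algebra.EssFiniteType k p.ResidueField := by
      have : Algebra.EssFiniteType A p.ResidueField := inferInstance
      exact .comp _ A _
    obtain ⟨s, hs⟩ := K134.ResDiff.exists_trdeg k p.ResidueField
    have h1 := Groth.Agent.S2141.result (k := k) p s hs
    rw [hn, hr] at h1
    have hnrs : n = r + s := by exact_mod_cast h1
    have hgm : ∀ i : Fin n, (i : ℕ) < r → g i ∈ maximalIdeal (Localization.AtPrime p) := by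
      intro i hi
      have h2 := hg i hi
      rw [← IsLocalization.AtPrime.to_map_mem_maximal_iff (Localization.AtPrime p) p] at h2
      exact h2
    constructor
    · have het' : Algebra.FormallyEtale (MvPolynomial (Fin n) k) (Localization.AtPrime p) := het
      have hsm : Algebra.IsSmoothAt k p := by
        have : Algebra.FormallySmooth (MvPolynomial (Fin n) k) (Localization.AtPrime p) := inferInstance
        exact Algebra.FormallySmooth.comp k (MvPolynomial (Fin n) k) (Localization.AtPrime p)
      have hreg : IsRegularLocalRing (Localization.AtPrime p) :=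
        Groth.Agent.CalgC.RegSmooth.isRegularLocalRing_of_isSmoothAt (k := k) p
      let b : Basis (Fin n) (Localization.AtPrime p) Ω[Localization.AtPrime p⁄k] :=
        ((mvPolynomialBasis k (Fin n)).baseChange (Localization.AtPrime p)).map
          (tensorKaehlerEquivOfFormallyEtale k (MvPolynomial (Fin n) k) (Localization.AtPrime p))
      refine span_eq_maximalIdeal (k := k) n r (by omega) hr b g (fun i ↦ ?_) hgm
      simp only [b, g, Basis.map_apply, Basis.baseChange_apply, mvPolynomialBasis_apply,
        tensorKaehlerEquivOfFormallyEtale_apply, mapBaseChange_tmul, one_smul, map_D]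
      rw [IsScalarTower.algebraMap_apply (MvPolynomial (Fin n) k) A (Localization.AtPrime p)]
    · rw [eq_top_iff]
      intro x _
      obtain ⟨y, rfl⟩ := KaehlerDifferential.map_surjective_of_surjective k k (Localization.AtPrime p)
        p.ResidueField residue_surjective x
      have hy : y ∈ Submodule.span (Localization.AtPrime p) (Set.range fun i : Fin n ↦
        D k (Localization.AtPrime p) (g i)) := hspan ▸ trivial
      induction hy using Submodule.span_induction with
      | mem x hx =>
        obtain ⟨i, rfl⟩ := hx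
        rw [map_D]
        by_cases hi : (i : ℕ) < r
        · have h2 : algebraMap (Localization.AtPrime p) p.ResidueField (g i) = 0 :=
            (residue_eq_zero_iff _).mpr (hgm i hi)
          rw [h2, map_zero]
          exact zero_mem _
        · exact Submodule.subset_span ⟨i, not_lt.mp hi, rfl⟩
      | zero => rw [map_zero]; exact zero_mem _
      | add x y _ _ ihx ihy => rw [map_add]; exact add_mem (ihx trivial) (ihy trivial)
      | smul a x _ ih =>
        rw [LinearMap.map_smul, ← algebraMap_smul p.ResidueField a]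
        exact Submodule.smul_mem _ _ (ih trivial)
  · rintro ⟨h1, h2⟩
    exact (Groth.Agent.S2790.result k A n p hn).mpr (span_eq_top n r g h1 h2)

end K134.RegSep
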