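import Mathlib.AlgebraicGeometry.Morphisms.QuasiSeparated
import Mathlib.AlgebraicGeometry.Morphisms.UnderlyingMap

/-!
# Quasi-compactness and quasi-separatedness descend along surjective (quasi-compact) morphisms of the source
-/

set_option autoImplicit false
universe u

open CategoryTheory CategoryTheory.Limits AlgebraicGeometry

namespace K134.QcDescent

variable {X Y Z : Scheme.{u}} (f : X ⟶ Y) (g : Y ⟶ Z)

/-- If `f` is surjective and `f ≫ g` is quasi-compact, then so is `g`. -/
theorem quasiCompact_of_comp_surjective [Surjective f] [QuasiCompact (f ≫ g)] : QuasiCompact g := by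
  rw [quasiCompact_iff]
  intro U hU hcU
  have h := QuasiCompact.isCompact_preimage (f := f ≫ g) U hU hcU
  have h2 : (g.base ⁻¹' U) = f.base '' ((f ≫ g).base ⁻¹' U) := by
    rw [Scheme.Hom.comp_base]
    simp only [TopCat.hom_comp, ContinuousMap.coe_comp, Set.preimage_comp]
    exact (Set.image_preimage_eq _ f.surjective).symm
  rw [h2]
  exact h.image f.continuous

/-- If `f` is surjective and quasi-compact and `f ≫ g` is quasi-separated, then so is `g`. -/
theorem quasiSeparated_of_comp_surjective [Surjective f] [QuasiCompact f] [QuasiSeparated (f ≫ g)] :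
    QuasiSeparated g := by
  constructor
  have h1 : QuasiCompact (pullback.map (f ≫ g) (f ≫ g) g g f f (𝟙 Z) (by simp) (by simp)) := by
    exact MorphismProperty.pullbackMap (P := @QuasiCompact) ‹_› ‹_› rfl rfl
  have h2 : f ≫ pullback.diagonal g = pullback.diagonal (f ≫ g) ≫
      pullback.map (f ≫ g) (f ≫ g) g g f f (𝟙 Z) (by simp) (by simp) := by
    apply pullback.hom_ext
    · rw [Category.assoc, Category.assoc, pullback.diagonal_fst, pullback.lift_fst, pullback.diagonal_fst_assoc,
        Category.comp_id]
    · rw [Category.assoc, Category.assoc, pullback.diagonal_snd, pullback.lift_snd, pullback.diagonal_snd_assoc,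
        Category.comp_id]
  have h3 : QuasiCompact (f ≫ pullback.diagonal g) := by
    rw [h2]; infer_instance
  exact quasiCompact_of_comp_surjective f _

end K134.QcDescent
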