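import Groth.Agent.Unram17.K134.H1Imm
import Groth.Agent.FlatMor.K253.H1QCoh
import Groth.Agent.OmegaSh.K583.ConSect
import Groth.Agent.Nrm16.K137.Imm
import Groth.Agent.Nrm16.K137.Ideal
import Groth.Agent.CohqA.IdealMod
import Groth.Agent.CohqA.PullbackQCoh
import Groth.Agent.Pi1C.ZeroScheme
import Groth.Agent.Fga.QTPull2

/-!
# The conormal sheaf of an immersion is the first homology sheaf of the naive cotangent complex
-/

set_option autoImplicit false
universe u

open CategoryTheory CategoryTheory.Limits AlgebraicGeometry Opposite TopologicalSpace OmegaSh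

noncomputable section

namespace K134.H1Con

open K253.H1Map K134.H1Imm Groth.Agent.CohqA.BaseChangeMod K583.ConSect

variable {Z X : Scheme.{u}} (i : Z ⟶ X) [QuasiCompact i]

theorem appLE_idealSect (V : X.Opens) (U : Z.Opens) (e : U ≤ i ⁻¹ᵁ V) (t : Γ(ClSub.idealMod i.ker, V)) :
    (i.appLE V U e).hom (idealSect i.ker V t) = 0 := by
  change (Z.presheaf.map (homOfLE e).op).hom (i.app V (idealSect i.ker V t)) = 0
  rw [app_idealSect, map_zero]

/-- The class in `H_1` of a section of the ideal. -/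
def kapS (V : X.Opens) (U : Z.Opens) (e : U ≤ i ⁻¹ᵁ V) :
    Γ(ClSub.idealMod i.ker, V) →+ H1 (i.appLE V U e).hom :=
  AddMonoidHom.mk' (fun t => kap _ (idealSect i.ker V t) (appLE_idealSect i V U e t)) (by
    intro s t
    rw [← kap_add _ _ _ _ _ (by
      rw [map_add, appLE_idealSect, appLE_idealSect, add_zero])]
    exact kap_congr _ (map_add _ _ _) _ _)

theorem kapS_apply (V : X.Opens) (U : Z.Opens) (e : U ≤ i ⁻¹ᵁ V) (t : Γ(ClSub.idealMod i.ker, V)) :
    kapS i V U e t = kap _ (idealSect i.ker V t) (appLE_idealSect i V U e t) := rfl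

theorem kapS_smul (V : X.Opens) (U : Z.Opens) (e : U ≤ i ⁻¹ᵁ V) (r : Γ(X, V))
    (t : Γ(ClSub.idealMod i.ker, V)) :
    kapS i V U e (r • t) = (i.appLE V U e).hom r • kapS i V U e t := by
  rw [kapS_apply, kapS_apply, ← kap_smul _ _ _ _ (by rw [map_mul, appLE_idealSect, mul_zero])]
  exact kap_congr _ (idealSect_smul i.ker r t) _ _

/-- Compatibility of the classes with restriction. -/
theorem chartRes_kapS {U U' : Z.affineOpens} {V V' : X.affineOpens} (e : (U : Z.Opens) ≤ i ⁻¹ᵁ (V : X.Opens))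
    (e' : (U' : Z.Opens) ≤ i ⁻¹ᵁ (V' : X.Opens)) (hU : (U' : Z.Opens) ≤ U) (hV : (V' : X.Opens) ≤ V)
    (t : Γ(ClSub.idealMod i.ker, V)) :
    NLCx.chartRes e e' hU hV (kapS i V U e t) =
      kapS i V' U' e' ((ClSub.idealMod i.ker).presheaf.map (homOfLE hV).op t) := by
  rw [K253.H1Chart.chartRes_eq, kapS_apply, kapS_apply]
  have h1 : (X.presheaf.map (homOfLE hV).op).hom (idealSect i.ker V t) =
      idealSect i.ker V' ((ClSub.idealMod i.ker).presheaf.map (homOfLE hV).op t) :=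
    (idealSect_map i.ker hV t).symm
  rw [h1map_kap _ _ _ _ _ _ _ (by rw [h1]; exact appLE_idealSect i _ _ _ _)]
  exact kap_congr _ h1 _ _

omit [QuasiCompact i] in
/-- Sections of the conormal sheaf over an affine chart. -/
theorem isBC_cls {V : X.Opens} (hV : IsAffineOpen V) {U : Z.Opens} (hU : IsAffineOpen U)
    (e : U ≤ i ⁻¹ᵁ V) : IsBC (i.appLE V U e).hom (cls i V U e) := by
  have : Coh.IsQCoh (ClSub.idealMod i.ker) := Groth.Agent.CohqA.IdealMod.isQCoh_idealMod _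
  exact Groth.Agent.CohqA.PullbackQCoh.isBC_pbSec i (ClSub.idealMod i.ker) hV hU e

theorem exists_phi {V : X.Opens} (hV : IsAffineOpen V) {U : Z.Opens} (hU : IsAffineOpen U)
    (e : U ≤ i ⁻¹ᵁ V) : ∃ Φ : Γ(Omega.conormal i, U) →ₗ[Γ(Z, U)] H1 (i.appLE V U e).hom,
      ∀ t, Φ (cls i V U e t) = kapS i V U e t :=
  ((isBC_cls i hV hU e).lift _ (kapS i V U e) (kapS_smul i V U e)).exists

/-- The comparison map. -/
def phi {V : X.Opens} (hV : IsAffineOpen V) {U : Z.Opens} (hU : IsAffineOpen U)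
    (e : U ≤ i ⁻¹ᵁ V) : Γ(Omega.conormal i, U) →ₗ[Γ(Z, U)] H1 (i.appLE V U e).hom :=
  (exists_phi i hV hU e).choose

theorem phi_cls {V : X.Opens} (hV : IsAffineOpen V) {U : Z.Opens} (hU : IsAffineOpen U)
    (e : U ≤ i ⁻¹ᵁ V) (t : Γ(ClSub.idealMod i.ker, V)) : phi i hV hU e (cls i V U e t) = kapS i V U e t :=
  (exists_phi i hV hU e).choose_spec t

/-- Compatibility of the comparison maps with restriction. -/
theorem phi_res {U U' : Z.affineOpens} {V V' : X.affineOpens} (e : (U : Z.Opens) ≤ i ⁻¹ᵁ (V : X.Opens))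
    (e' : (U' : Z.Opens) ≤ i ⁻¹ᵁ (V' : X.Opens)) (hU : (U' : Z.Opens) ≤ U) (hV : (V' : X.Opens) ≤ V)
    (m : Γ(Omega.conormal i, U)) :
    phi i V'.2 U'.2 e' ((Omega.conormal i).presheaf.map (homOfLE hU).op m) =
      NLCx.chartRes e e' hU hV (phi i V.2 U.2 e m) := by
  have h1 : m ∈ Submodule.span Γ(Z, U) (Set.range (cls i V U e)) := by
    rw [Groth.Agent.Fga.QTPull.span_range_of_isBC (isBC_cls i V.2 U.2 e)]
    trivial
  refine Submodule.span_induction (p := fun m _ =>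
    phi i V'.2 U'.2 e' ((Omega.conormal i).presheaf.map (homOfLE hU).op m) =
      NLCx.chartRes e e' hU hV (phi i V.2 U.2 e m)) ?_ ?_ ?_ ?_ h1
  · rintro _ ⟨t, rfl⟩
    rw [map_cls, phi_cls, chartRes_kapS, ← phi_cls i V'.2 U'.2]
    congr 1
    exact (cls_map i V V' U' hV e' t).symm
  · rw [map_zero, map_zero, map_zero, map_zero]
  · intro x y _ _ hx hy
    rw [map_add, map_add, map_add, map_add, hx, hy]
  · intro a x _ hx
    have h2 : (Omega.conormal i).presheaf.map (homOfLE hU).op (a • x) =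
        (Z.presheaf.map (homOfLE hU).op).hom a • (Omega.conormal i).presheaf.map (homOfLE hU).op x :=
      Scheme.Modules.map_smul _ _ _ _
    have h3 : phi i V.2 U.2 e (a • x) = a • phi i V.2 U.2 e x := LinearMap.map_smul _ _ _
    have h4 : NLCx.chartRes e e' hU hV (a • phi i V.2 U.2 e x) =
        (Z.presheaf.map (homOfLE hU).op).hom a • NLCx.chartRes e e' hU hV (phi i V.2 U.2 e x) := by
      rw [K253.H1Chart.chartRes_eq]
      exact h1map_smul _ _ _ _ _ _ _
    refine (congrArg (phi i V'.2 U'.2 e') h2).trans ?_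
    refine (LinearMap.map_smul _ _ _).trans ?_
    refine Eq.trans ?_ (congrArg (NLCx.chartRes e e' hU hV) h3).symm
    refine Eq.trans ?_ h4.symm
    exact congrArg _ hx

/-- The comparison map is bijective on the charts on which the immersion is closed. -/
theorem phi_bijective_of_ch [IsImmersion i] {V : X.Opens} (hV : IsAffineOpen V) (hle : V ≤ i.coborderRange)
    {U : Z.Opens} (hU : IsAffineOpen U) (hUV : U = i ⁻¹ᵁ V) (e : U ≤ i ⁻¹ᵁ V) :
    Function.Bijective (phi i hV hU e) := by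
  subst hUV
  have h0 : i.appLE V (i ⁻¹ᵁ V) e = i.app V := by
    rw [Scheme.Hom.appLE]
    have : (homOfLE e).op = 𝟙 (op (i ⁻¹ᵁ V)) := rfl
    rw [this, CategoryTheory.Functor.map_id, Category.comp_id]
  have hs : Function.Surjective (i.appLE V (i ⁻¹ᵁ V) e).hom := by
    rw [h0]
    exact K137.Imm.app_surjective ⟨V, hV, hle⟩
  have h1 : IsBC (i.appLE V (i ⁻¹ᵁ V) e).hom (kapS i V (i ⁻¹ᵁ V) e) :=
    isBC_kap _ hs (M := Γ(ClSub.idealMod i.ker, V)) (idealSect i.ker V)
      (fun r m => idealSect_smul i.ker r m) (fun a b h => idealSect_inj i.ker h)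
      (fun m => appLE_idealSect i V _ e m) (fun a ha => by
        rw [h0] at ha
        exact (K137.Ideal.app_eq_zero_iff i V a).mp ha) _ (fun m => rfl)
  exact (isBC_cls i hV hU e).bijective_of_isBC h1 (phi i hV hU e) (phi_cls i hV hU e)

/-- The comparison map is bijective on small basic open subsets. -/
theorem exists_basicOpen [IsImmersion i] (U : Z.affineOpens) (V : X.affineOpens)
    (e : (U : Z.Opens) ≤ i ⁻¹ᵁ (V : X.Opens)) (z : Z) (hz : z ∈ (U : Z.Opens)) :
    ∃ g : Γ(Z, U), z ∈ Z.basicOpen g ∧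
      Function.Bijective (phi i V.2 (U.2.basicOpen g) ((Z.basicOpen_le g).trans e)) := by
  obtain ⟨c, hzc, hcU⟩ := K137.Imm.exists_ch (i := i) z U hz
  obtain ⟨V₁, hV₁, hz₁, hV₁'⟩ := exists_isAffineOpen_mem_and_subset (x := i z)
    (U := c.V ⊓ (V : X.Opens)) ⟨hzc, e hz⟩
  have hV₁c : V₁ ≤ c.V := fun y hy => (hV₁' hy).1
  have hV₁V : V₁ ≤ (V : X.Opens) := fun y hy => (hV₁' hy).2
  have hU₁ : i ⁻¹ᵁ V₁ ≤ (U : Z.Opens) := (i.preimage_mono hV₁c).trans hcU
  obtain ⟨g, hg, hzg⟩ := U.2.exists_basicOpen_le (V := i ⁻¹ᵁ V₁) ⟨z, hz₁⟩ hz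
  obtain ⟨h, hh⟩ := K137.Imm.app_surjective (i := i) ⟨V₁, hV₁, hV₁c.trans c.le⟩
    (Z.presheaf.map (homOfLE hU₁).op g)
  have hD : Z.basicOpen g = i ⁻¹ᵁ (X.basicOpen h) := by
    rw [Scheme.preimage_basicOpen]
    refine Eq.trans ?_ (congrArg Z.basicOpen hh).symm
    rw [Scheme.basicOpen_res]
    exact (inf_eq_right.mpr hg).symm
  refine ⟨g, hzg, ?_⟩
  let U' : Z.affineOpens := ⟨Z.basicOpen g, U.2.basicOpen g⟩
  let V' : X.affineOpens := ⟨X.basicOpen h, hV₁.basicOpen h⟩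
  have hV' : (V' : X.Opens) ≤ V := (X.basicOpen_le h).trans hV₁V
  have e₁ : (U' : Z.Opens) ≤ i ⁻¹ᵁ (V' : X.Opens) := hD.le
  have e₂ : (U' : Z.Opens) ≤ i ⁻¹ᵁ (V : X.Opens) := (Z.basicOpen_le g).trans e
  have h1 : Function.Bijective (phi i V'.2 U'.2 e₁) :=
    phi_bijective_of_ch i V'.2 ((X.basicOpen_le h).trans (hV₁c.trans c.le)) U'.2 hD e₁
  have h2 : Function.Bijective (NLCx.chartRes e₂ e₁ le_rfl hV') := K253.H1Chart.chartRes_bijective _ _ _ _
  have h3 : (NLCx.chartRes e₂ e₁ le_rfl hV') ∘ (phi i V.2 U'.2 e₂) = phi i V'.2 U'.2 e₁ := by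
    funext m
    refine (phi_res i e₂ e₁ le_rfl hV' m).symm.trans ?_
    congr 1
    have : (homOfLE (le_refl (U' : Z.Opens))).op = 𝟙 _ := rfl
    rw [this, CategoryTheory.Functor.map_id]
    rfl
  change Function.Bijective (phi i V.2 U'.2 e₂)
  rwa [← Function.Bijective.of_comp_iff' h2, h3]

theorem span_eq_top (U : Z.affineOpens) (s : Set Γ(Z, U))
    (h : ∀ z ∈ (U : Z.Opens), ∃ g ∈ s, z ∈ Z.basicOpen g) : Ideal.span s = ⊤ := by
  rw [← U.2.self_le_iSup_basicOpen_iff]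
  intro z hz
  obtain ⟨g, hg, hzg⟩ := h z hz
  exact Opens.mem_iSup.mpr ⟨⟨g, hg⟩, hzg⟩

/-- **The comparison map is bijective.** -/
theorem phi_bijective [IsImmersion i] (U : Z.affineOpens) (V : X.affineOpens)
    (e : (U : Z.Opens) ≤ i ⁻¹ᵁ (V : X.Opens)) : Function.Bijective (phi i V.2 U.2 e) := by
  have hC : Coh.IsQCoh (Omega.conormal i) := by
    have : Coh.IsQCoh (ClSub.idealMod i.ker) := Groth.Agent.CohqA.IdealMod.isQCoh_idealMod _
    exact inferInstanceAs (Coh.IsQCoh ((Scheme.Modules.pullback i).obj (ClSub.idealMod i.ker)))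
  let s : Set Γ(Z, U) :=
    {g | Function.Bijective (phi i V.2 (U.2.basicOpen g) ((Z.basicOpen_le g).trans e))}
  have hs : Ideal.span s = ⊤ := span_eq_top U s fun z hz => by
    obtain ⟨g, hg, h⟩ := exists_basicOpen i U V e z hz
    exact ⟨g, h, hg⟩
  have hres : ∀ (g : Γ(Z, U)) (m : Γ(Omega.conormal i, U)),
      phi i V.2 (U.2.basicOpen g) ((Z.basicOpen_le g).trans e)
        ((Omega.conormal i).presheaf.map (homOfLE (Z.basicOpen_le g)).op m) =
      NLCx.chartRes (U' := Z.affineBasicOpen g) e ((Z.basicOpen_le g).trans e) (Z.basicOpen_le g) le_rfl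
        (phi i V.2 U.2 e m) := by
    intro g m
    refine (phi_res i (U' := Z.affineBasicOpen g) (V' := V) e ((Z.basicOpen_le g).trans e)
      (Z.basicOpen_le g) le_rfl m)
  constructor
  · rw [injective_iff_map_eq_zero]
    intro m hm
    refine (Submodule.mem_bot Γ(Z, U)).mp (Submodule.mem_of_span_eq_top_of_smul_pow_mem _ s hs m ?_)
    rintro ⟨g, hg⟩
    have h1 := hres g m
    rw [hm, map_zero] at h1
    have h2 : (Omega.conormal i).presheaf.map (homOfLE (Z.basicOpen_le g)).op m = 0 :=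
      hg.1 (h1.trans (map_zero _).symm)
    obtain ⟨n, hn⟩ := Groth.Agent.Pi1C.ZeroScheme.exists_pow_smul_eq_zero hC U.2 g m h2
    exact ⟨n, (Submodule.mem_bot _).mpr hn⟩
  · intro y
    refine Submodule.mem_of_span_eq_top_of_smul_pow_mem (LinearMap.range (phi i V.2 U.2 e)) s hs y ?_
    rintro ⟨g, hg⟩
    obtain ⟨t, ht⟩ := hg.2 (NLCx.chartRes (U' := Z.affineBasicOpen g) e ((Z.basicOpen_le g).trans e)
      (Z.basicOpen_le g) le_rfl y)
    obtain ⟨n, m, hm⟩ := Groth.Agent.Pi1C.ZeroScheme.exists_res_eq hC U.2 g t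
    let U' : Z.affineOpens := Z.affineBasicOpen g
    have hU' : (U' : Z.Opens) ≤ U := Z.basicOpen_le g
    have e' : (U' : Z.Opens) ≤ i ⁻¹ᵁ (V : X.Opens) := hU'.trans e
    have h1 : NLCx.chartRes e e' hU' le_rfl (g ^ n • y) =
        ((Z.presheaf.map (homOfLE hU').op).hom (g ^ n) : Γ(Z, (U' : Z.Opens))) •
          NLCx.chartRes e e' hU' le_rfl y := by
      rw [K253.H1Chart.chartRes_eq]
      exact h1map_smul _ _ _ _ _ _ _
    have h2 : NLCx.chartRes e e' hU' le_rfl (phi i V.2 U.2 e m - g ^ n • y) = 0 := by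
      rw [map_sub, sub_eq_zero, h1, map_pow]
      refine (hres g m).symm.trans ?_
      refine (congrArg (phi i V.2 (U.2.basicOpen g) ((Z.basicOpen_le g).trans e)) hm).trans ?_
      refine (LinearMap.map_smul _ _ _).trans ?_
      rw [ht]
      rfl
    obtain ⟨k, hk⟩ := (K253.H1Chart.sys i).loc_inj e g _ h2
    refine ⟨k + n, g ^ k • m, ?_⟩
    have h3 : g ^ k • (phi i V.2 U.2 e m - g ^ n • y) = 0 := hk
    rw [smul_sub, sub_eq_zero] at h3
    rw [map_smul, pow_add, mul_smul]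
    exact h3

end K134.H1Con
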