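import Groth.Agent.OmegaSh.K583.AlgUniv
import Groth.Agent.CohqA.BaseChangeMod
import Mathlib.RingTheory.Smooth.Basic
import Mathlib.RingTheory.RingHom.Smooth

/-!
# The conormal sequence `I/I² → C ⊗ Ω_{B/A}` is split injective when `A → C` is formally smooth

`A → B → C` with `B → C` surjective with kernel `I`; everything unbundled: `κ : I' → B` injective with range
`I`; `u : I' → MI`, `t : Ω' → E` base changes to `C`; `δ : B → Ω'` a universal `A`-derivation.
-/

set_option autoImplicit false
universe u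

namespace K134.ConormalRetr

open K583.AlgUniv Groth.Agent.CohqA.BaseChangeMod

variable {A B C : Type u} [CommRing A] [CommRing B] [CommRing C] {φ : A →+* B} {π : B →+* C}
  (hs : Function.Surjective π) (hf : (π.comp φ).FormallySmooth)

include hs hf in
/-- The section of `B/I² → C`. -/
theorem exists_section :
    ∃ s : C →+* B ⧸ (RingHom.ker π) ^ 2, (∀ a, s (π (φ a)) = Ideal.Quotient.mk _ (φ a)) ∧
      ∀ c b, s c = Ideal.Quotient.mk _ b → π b = c := by
  let _ := φ.toAlgebra
  let _ := (π.comp φ).toAlgebra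
  have hf' : Algebra.FormallySmooth A C := hf
  have h0 : ∀ a ∈ (RingHom.ker π) ^ 2, π a = 0 := fun a ha => Ideal.pow_le_self two_ne_zero ha
  let g : (B ⧸ (RingHom.ker π) ^ 2) →ₐ[A] C :=
    { Ideal.Quotient.lift _ π h0 with commutes' := fun a => rfl }
  have hg : Function.Surjective g := Ideal.Quotient.lift_surjective_of_surjective _ h0 hs
  have hg' : IsNilpotent (RingHom.ker (g : (B ⧸ (RingHom.ker π) ^ 2) →+* C)) := by
    refine ⟨2, ?_⟩
    have h1 : RingHom.ker (g : (B ⧸ (RingHom.ker π) ^ 2) →+* C) =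
        (RingHom.ker π).map (Ideal.Quotient.mk ((RingHom.ker π) ^ 2)) := by
      ext q
      obtain ⟨a, rfl⟩ := Ideal.Quotient.mk_surjective q
      rw [RingHom.mem_ker]
      constructor
      · intro h
        exact Ideal.mem_map_of_mem _ h
      · intro h
        obtain ⟨a', ha', e⟩ := (Ideal.mem_map_iff_of_surjective _
          Ideal.Quotient.mk_surjective).1 h
        rw [← e]
        exact ha'
    rw [h1, ← Ideal.map_pow, Ideal.map_quotient_self]
    rfl
  refine ⟨(Algebra.FormallySmooth.liftOfSurjective (AlgHom.id A C) g hg hg').toRingHom, fun a => ?_,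
    fun b a h => ?_⟩
  · exact (Algebra.FormallySmooth.liftOfSurjective (AlgHom.id A C) g hg hg').commutes a
  · have h1 := Algebra.FormallySmooth.liftOfSurjective_apply (AlgHom.id A C) g hg hg' b
    have h2 : Algebra.FormallySmooth.liftOfSurjective (AlgHom.id A C) g hg hg' b =
      Ideal.Quotient.mk _ a := h
    rw [h2] at h1
    exact h1

variable {I' : Type u} [AddCommGroup I'] [Module B I'] {κ : I' →ₗ[B] B}
  (hκ : Function.Injective κ) (hκr : ∀ b, b ∈ LinearMap.range κ ↔ π b = 0)
  {MI : Type u} [AddCommGroup MI] [Module C MI] {u : I' →+ MI} (hu : IsBC π u)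
  {Ω' : Type u} [AddCommGroup Ω'] [Module B Ω'] {δ : B →+ Ω'} (hδ : IsAlgUniv φ δ)
  {E : Type u} [AddCommGroup E] [Module C E] {t : Ω' →+ E} (ht : IsBC π t)
  {Φ : MI →ₗ[C] E} (hΦ : ∀ x, Φ (u x) = t (δ (κ x)))

include hs hf hκ hκr hu hδ ht hΦ in
/-- **The conormal map is split injective.** -/
theorem exists_retraction : ∃ G : E →ₗ[C] MI, G ∘ₗ Φ = LinearMap.id := by
  obtain ⟨s, hs1, hs2⟩ := exists_section hs hf
  -- `u` kills `J²`
  have hsq : ∀ y : I', κ y ∈ (RingHom.ker π) ^ 2 → u y = 0 := by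
    have : ∀ a ∈ (RingHom.ker π) ^ 2, ∃ y : I', κ y = a ∧ u y = 0 := by
      intro a ha
      rw [pow_two] at ha
      induction ha using Submodule.mul_induction_on' with
      | mem_mul_mem a ha b hb =>
        obtain ⟨y, hy⟩ := (hκr b).2 hb
        refine ⟨a • y, ?_, ?_⟩
        · rw [map_smul, hy, smul_eq_mul]
        · rw [hu.map_smul, RingHom.mem_ker.1 ha, zero_smul]
      | add a _ b _ iha ihb =>
        obtain ⟨y, hy, hy'⟩ := iha
        obtain ⟨z, hz, hz'⟩ := ihb
        exact ⟨y + z, by rw [map_add, hy, hz], by rw [map_add, hy', hz', add_zero]⟩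
    intro y hy
    obtain ⟨z, hz, hz'⟩ := this _ hy
    rw [← hκ hz, hz']
  have key : ∀ (x x' : I'), Ideal.Quotient.mk ((RingHom.ker π) ^ 2) (κ x) = Ideal.Quotient.mk _ (κ x') → u x = u x' := by
    intro y y' h
    rw [← sub_eq_zero, ← map_sub]
    apply hsq
    rwa [map_sub, ← Ideal.Quotient.eq]
  have hex : ∀ b : B, ∃ x : I', Ideal.Quotient.mk ((RingHom.ker π) ^ 2) (κ x) =
      Ideal.Quotient.mk _ b - s (π b) := by
    intro b
    obtain ⟨a, ha⟩ := Ideal.Quotient.mk_surjective (s (π b))
    obtain ⟨x, hx⟩ := (hκr (b - a)).2 (by rw [map_sub, hs2 _ _ ha.symm, sub_self])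
    exact ⟨x, by rw [hx, map_sub, ha]⟩
  choose X hX using hex
  let _ : Module B MI := Module.compHom MI π
  let G : B →+ MI :=
    { toFun := fun b ↦ u (X b)
      map_zero' := by
        rw [← map_zero u]
        apply key
        rw [hX, map_zero, map_zero, map_zero, map_zero, map_zero, sub_zero]
      map_add' := fun a b ↦ by
        rw [← map_add u]
        apply key
        rw [hX, map_add κ, map_add _ (κ _) (κ _), hX, hX, map_add, map_add, map_add]
        ring }
  have hG : IsDer φ G := by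
    constructor
    · intro a b
      change u (X (a * b)) = π a • u (X b) + π b • u (X a)
      rw [← hu.map_smul, ← hu.map_smul, ← map_add u]
      apply key
      rw [hX, map_add κ, map_smul, map_smul, smul_eq_mul, smul_eq_mul, map_add (Ideal.Quotient.mk _),
        map_mul (Ideal.Quotient.mk _), map_mul (Ideal.Quotient.mk _) a, map_mul (Ideal.Quotient.mk _) b,
        hX, hX, map_mul, map_mul]
      have h1 : (Ideal.Quotient.mk ((RingHom.ker π) ^ 2) a - s (π a)) *
          (Ideal.Quotient.mk ((RingHom.ker π) ^ 2) b - s (π b)) = 0 := by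
        rw [← hX, ← hX, ← map_mul, Ideal.Quotient.eq_zero_iff_mem, pow_two]
        exact Ideal.mul_mem_mul ((hκr _).1 ⟨_, rfl⟩) ((hκr _).1 ⟨_, rfl⟩)
      linear_combination -h1
    · intro c
      change u (X (φ c)) = 0
      rw [← map_zero u]
      apply key
      rw [hX, hs1, sub_self, map_zero, map_zero]
  obtain ⟨G', hG', -⟩ := hδ.lift MI G hG
  obtain ⟨G'', hG'', -⟩ := ht.lift MI G'.toAddMonoidHom (fun r x ↦ G'.map_smul r x)
  refine ⟨G'', ?_⟩
  refine hu.hom_ext fun x ↦ ?_
  rw [LinearMap.comp_apply, hΦ, hG'']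
  change G' (δ (κ x)) = u x
  rw [hG']
  change u (X (κ x)) = u x
  apply key
  rw [hX, (hκr _).1 ⟨_, rfl⟩, map_zero, sub_zero]

end K134.ConormalRetr
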