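import Groth.Agent.FlatMor.K253.H1Map
import Groth.Agent.CohqA.BaseChangeMod
import Groth.Agent.Flat2B.GExGlob
import Mathlib.RingTheory.Smooth.Kaehler

/-!
# `H_1` of the naive cotangent complex and the kernel of the structure map

For a ring homomorphism `φ : A → B` and `a ∈ ker φ` the class `kap φ a ∈ H_1(NL_φ)`; for `φ` surjective the
classes identify `H_1(NL_φ)` with `ker φ / (ker φ)²`.
-/

set_option autoImplicit false
universe u

open TensorProduct

noncomputable section

namespace K134.H1Imm

open K253.H1Map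

variable {A A' B B' : Type u} [CommRing A] [CommRing A'] [CommRing B] [CommRing B']

section

variable [Algebra A B] (P : Algebra.Extension.{u} A B)

theorem mem_ker (a : A) (ha : algebraMap A B a = 0) : algebraMap A P.Ring a ∈ P.ker := by
  rw [Algebra.Extension.ker, RingHom.mem_ker, ← IsScalarTower.algebraMap_apply, ha]

/-- The class of an element of the kernel. -/
def kapE (a : A) (ha : algebraMap A B a = 0) : P.H1Cotangent :=
  ⟨Algebra.Extension.Cotangent.mk ⟨algebraMap A P.Ring a, mem_ker P a ha⟩, by
    rw [LinearMap.mem_ker, Algebra.Extension.cotangentComplex_mk]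
    simp⟩

theorem kapE_val (a : A) (ha : algebraMap A B a = 0) :
    (kapE P a ha).1 = Algebra.Extension.Cotangent.mk ⟨algebraMap A P.Ring a, mem_ker P a ha⟩ := rfl

theorem kapE_add (a b : A) (ha : algebraMap A B a = 0) (hb : algebraMap A B b = 0)
    (hab : algebraMap A B (a + b) = 0) : kapE P (a + b) hab = kapE P a ha + kapE P b hb := by
  apply Algebra.Extension.h1Cotangentι_ext
  rw [Algebra.Extension.H1Cotangent.val_add, kapE_val, kapE_val, kapE_val, ← map_add]
  congr 1
  exact Subtype.ext (map_add _ _ _)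

theorem kapE_smul (r a : A) (ha : algebraMap A B a = 0) (hra : algebraMap A B (r * a) = 0) :
    kapE P (r * a) hra = algebraMap A B r • kapE P a ha := by
  apply Algebra.Extension.h1Cotangentι_ext
  rw [Algebra.Extension.H1Cotangent.val_smul, kapE_val, kapE_val]
  have h1 : (⟨algebraMap A P.Ring (r * a), mem_ker P _ hra⟩ : P.ker) =
      algebraMap A P.Ring r • ⟨algebraMap A P.Ring a, mem_ker P _ ha⟩ :=
    Subtype.ext (map_mul _ _ _)
  rw [h1, map_smul, algebraMap_smul]
  exact algebraMap_smul B r (Algebra.Extension.Cotangent.mk ⟨algebraMap A P.Ring a, mem_ker P _ ha⟩)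

end

section

variable [Algebra A B] [Algebra A' B'] [Algebra A A'] [Algebra B B'] [Algebra A B'] [IsScalarTower A A' B']
  [IsScalarTower A B B'] (P : Algebra.Extension.{u} A B) (P' : Algebra.Extension.{u} A' B')

omit [IsScalarTower A B B'] in
theorem map_kapE (f : P.Hom P') (a : A) (ha : algebraMap A B a = 0)
    (ha' : algebraMap A' B' (algebraMap A A' a) = 0) :
    Algebra.Extension.H1Cotangent.map f (kapE P a ha) = kapE P' (algebraMap A A' a) ha' := by
  apply Algebra.Extension.h1Cotangentι_ext
  change Algebra.Extension.Cotangent.map f (kapE P a ha).1 = _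
  rw [kapE_val, kapE_val, Algebra.Extension.Cotangent.map_mk]
  congr 1
  apply Subtype.ext
  exact f.toRingHom_algebraMap a

end

set_option backward.isDefEq.respectTransparency false in
theorem formallySmooth_self [Algebra A B] :
    Algebra.FormallySmooth A (Algebra.Generators.self A B).toExtension.Ring :=
  inferInstanceAs (Algebra.FormallySmooth A (MvPolynomial _ _))

/-- The extension of `B` given by `A` itself, for `A → B` surjective. -/
def ext₀ [Algebra A B] (h : Function.Surjective (algebraMap A B)) : Algebra.Extension.{u} A B :=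
  Algebra.Extension.ofSurjective (Algebra.ofId A B) h

section

variable [Algebra A B] (h : Function.Surjective (algebraMap A B))

theorem exists_kapE_eq (x : (ext₀ h).H1Cotangent) : ∃ (a : A) (ha : algebraMap A B a = 0),
    kapE (ext₀ h) a ha = x := by
  obtain ⟨⟨a, ha⟩, hax⟩ := Algebra.Extension.Cotangent.mk_surjective x.1
  exact ⟨a, ha, Algebra.Extension.h1Cotangentι_ext _ _ hax⟩

theorem kapE_eq_zero_iff (a : A) (ha : algebraMap A B a = 0) :
    kapE (ext₀ h) a ha = 0 ↔ a ∈ RingHom.ker (algebraMap A B) ^ 2 := by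
  have h1 : kapE (ext₀ h) a ha = 0 ↔ Algebra.Extension.Cotangent.mk (P := ext₀ h)
      ⟨algebraMap A (ext₀ h).Ring a, mem_ker _ a ha⟩ = 0 :=
    ⟨fun h => congrArg Subtype.val h, fun h => Algebra.Extension.h1Cotangentι_ext _ _ h⟩
  rw [h1, Algebra.Extension.Cotangent.mk_eq_zero_iff]
  exact Iff.rfl

/-- The comparison of the two presentations. -/
def hom₀ (P : Algebra.Extension.{u} A B) : (ext₀ h).Hom P where
  toRingHom := algebraMap A P.Ring
  toRingHom_algebraMap _ := rfl
  algebraMap_toRingHom x := (IsScalarTower.algebraMap_apply A P.Ring B x).symm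

end

section

variable (φ : A →+* B) (φ' : A' →+* B')

/-- The class of an element of the kernel in `H_1`. -/
def kap (a : A) (ha : φ a = 0) : H1 φ :=
  letI := φ.toAlgebra
  kapE (Algebra.Generators.self A B).toExtension a ha

theorem kap_congr {a b : A} (h : a = b) (ha : φ a = 0) (hb : φ b = 0) : kap φ a ha = kap φ b hb := by
  subst h
  rfl

theorem kap_add (a b : A) (ha : φ a = 0) (hb : φ b = 0) (hab : φ (a + b) = 0) :
    kap φ (a + b) hab = kap φ a ha + kap φ b hb :=
  letI := φ.toAlgebra
  kapE_add _ a b ha hb hab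

theorem kap_smul (r a : A) (ha : φ a = 0) (hra : φ (r * a) = 0) :
    kap φ (r * a) hra = φ r • kap φ a ha :=
  letI := φ.toAlgebra
  kapE_smul _ r a ha hra

theorem h1map_kap (a : A →+* A') (b : B →+* B') (h : b.comp φ = φ'.comp a) (x : A) (hx : φ x = 0)
    (hx' : φ' (a x) = 0) : h1map φ φ' a b h (kap φ x hx) = kap φ' (a x) hx' := by
  let := φ.toAlgebra
  let := φ'.toAlgebra
  let := (b.comp φ).toAlgebra
  let := a.toAlgebra
  let := b.toAlgebra
  have : IsScalarTower A A' B' := IsScalarTower.of_algebraMap_eq' h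
  have : IsScalarTower A B B' := IsScalarTower.of_algebraMap_eq' rfl
  exact map_kapE (Algebra.Generators.self A B).toExtension (Algebra.Generators.self A' B').toExtension
    (Algebra.Generators.defaultHom _ _).toExtensionHom x hx hx'

/-- For `φ` surjective, `H_1(NL_φ)` is the base change of the kernel. -/
theorem isBC_kap (hφ : Function.Surjective φ) {M : Type u} [AddCommGroup M] [Module A M] (t : M →+ A)
    (ht : ∀ (r : A) (m : M), t (r • m) = r * t m) (hinj : Function.Injective t)
    (ht0 : ∀ m, φ (t m) = 0) (hrange : ∀ a, φ a = 0 → ∃ m, t m = a) (κ : M →+ H1 φ)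
    (hκ : ∀ m, κ m = kap φ (t m) (ht0 m)) : Groth.Agent.CohqA.BaseChangeMod.IsBC φ κ := by
  let := φ.toAlgebra
  let P := (Algebra.Generators.self A B).toExtension
  have : Algebra.FormallySmooth A P.Ring := formallySmooth_self
  have : Algebra.FormallySmooth A (ext₀ (A := A) (B := B) hφ).Ring :=
    inferInstanceAs (Algebra.FormallySmooth A A)
  let e := Algebra.Extension.H1Cotangent.equivOfFormallySmooth (ext₀ (A := A) (B := B) hφ) P
  have he : ∀ (a : A) (ha : φ a = 0), e (kapE _ a ha) = kap φ a ha := by
    intro a ha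
    rw [Algebra.Extension.H1Cotangent.equivOfFormallySmooth_apply (hom₀ hφ P)]
    exact map_kapE _ _ _ a ha ha
  refine Groth.Agent.Flat2B.GExGlob.isBC_of_surjective φ hφ κ ?_ ?_ ?_
  · intro y
    obtain ⟨x, rfl⟩ := e.surjective y
    obtain ⟨a, ha, rfl⟩ := exists_kapE_eq hφ x
    obtain ⟨m, rfl⟩ := hrange a ha
    exact ⟨m, by rw [hκ, he]⟩
  · intro r m
    rw [hκ, hκ, ← kap_smul φ r (t m) (ht0 m) (by rw [map_mul, ht0, mul_zero])]
    exact kap_congr φ (ht r m) _ _
  · intro m hm
    rw [hκ, ← he, EmbeddingLike.map_eq_zero_iff, kapE_eq_zero_iff, pow_two] at hm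
    have key : ∀ a ∈ RingHom.ker φ * RingHom.ker φ, ∃ m ∈ RingHom.ker φ • (⊤ : Submodule A M), t m = a := by
      intro a ha
      refine Submodule.mul_induction_on ha (fun r hr s hs => ?_) (fun x y hx hy => ?_)
      · obtain ⟨m, rfl⟩ := hrange s hs
        exact ⟨r • m, Submodule.smul_mem_smul hr trivial, ht r m⟩
      · obtain ⟨m, hm, rfl⟩ := hx
        obtain ⟨m', hm', rfl⟩ := hy
        exact ⟨m + m', add_mem hm hm', map_add _ _ _⟩
    obtain ⟨m', hm', h⟩ := key _ hm
    rw [← hinj h]
    exact hm'

end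

end K134.H1Imm
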