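import Groth.Agent.Smoothlim.LimDescendSource

/-!
# Descent of source-local properties from a limit to a stage: quasi-compact source

`exists_descend_of_compactSource`: let `P` be Zariski-local at the source, stable under base change and
composition, and descending along directed colimits of rings for morphisms with the property `Q`
(`DescendsRing Q P`).  Then `P` descends from a cofiltered limit to a stage for `f₀ : X₀ ⟶ Y₀` with `X₀`
quasi-compact; no compactness of `Y₀` or of the stage is needed.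
-/

set_option autoImplicit false
universe u

open CategoryTheory CategoryTheory.Limits AlgebraicGeometry
open Groth.Agent.Smoothlim.LimBase

namespace K134.LimSource

/-- For an open immersion `o`, the base change of `j ≫ o` along `p` is the base change of `j` along the
restriction of `p`, followed by an open immersion. -/
lemma snd_comp_right (P : MorphismProperty Scheme.{u}) [P.IsStableUnderComposition] [P.RespectsIso]
    {W V Y T : Scheme.{u}} (j : W ⟶ V) (o : V ⟶ Y) (p : T ⟶ Y)
    (ho : P (pullback.snd o p)) (h : P (pullback.snd j (pullback.fst o p))) :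
    P (pullback.snd (j ≫ o) p) := by
  have h1 : IsPullback (pullback.fst j (pullback.fst o p))
      (pullback.snd j (pullback.fst o p) ≫ pullback.snd o p) (j ≫ o) p :=
    ((IsPullback.of_hasPullback j (pullback.fst o p)).flip.paste_horiz
      (IsPullback.of_hasPullback o p).flip).flip
  have h2 : pullback.snd (j ≫ o) p = h1.isoPullback.inv ≫
      pullback.snd j (pullback.fst o p) ≫ pullback.snd o p := h1.isoPullback_inv_snd.symm
  rw [h2]
  exact (P.cancel_left_of_respectsIso _ _).mpr (P.comp_mem _ _ h ho)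

/-- For a monomorphism `o`, base change of `j` along `q` is base change of `j ≫ o` along `q ≫ o`. -/
lemma isPullback_of_mono {W V Y T R : Scheme.{u}} {j : W ⟶ V} {o : V ⟶ Y} [Mono o] {q : T ⟶ V} {a : R ⟶ W}
    {b : R ⟶ T} (h : IsPullback a b (j ≫ o) (q ≫ o)) : IsPullback a b j q := by
  refine ⟨⟨?_⟩, ⟨PullbackCone.IsLimit.mk _ (fun s => h.lift s.fst s.snd ?_) ?_ ?_ ?_⟩⟩
  · rw [← cancel_mono o, Category.assoc, Category.assoc]
    exact h.w
  · rw [← Category.assoc, s.condition, Category.assoc]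
  · intro s; exact h.lift_fst _ _ _
  · intro s; exact h.lift_snd _ _ _
  · intro s m h1 h2
    apply h.hom_ext
    · rw [h1, h.lift_fst]
    · rw [h2, h.lift_snd]

lemma isPullback_id_of_mono {W V Y : Scheme.{u}} (j : W ⟶ V) (o : V ⟶ Y) [Mono o] :
    IsPullback (𝟙 W) j (j ≫ o) o := by
  refine ⟨⟨by rw [Category.id_comp]⟩, ⟨PullbackCone.IsLimit.mk _ (fun s => s.fst) ?_ ?_ ?_⟩⟩
  · intro s; exact Category.comp_id _
  · intro s
    rw [← cancel_mono o, Category.assoc]
    exact s.condition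
  · intro s m h1 h2
    rwa [Category.comp_id] at h1

set_option backward.isDefEq.respectTransparency false in
/-- Descent over one affine open of the target. -/
lemma exists_descend_piece {P Q : MorphismProperty Scheme.{u}} [P.IsStableUnderBaseChange]
    [Q.IsStableUnderBaseChange] [IsZariskiLocalAtSource P] [IsZariskiLocalAtSource Q]
    (hA : DescendsRing Q P)
    {I : Type u} [SmallCategory I] [IsCofiltered I]
    (D : I ⥤ Scheme.{u}) (c : Cone D) (hc : IsLimit c)
    [∀ (i j : I) (f : i ⟶ j), IsAffineHom (D.map f)] (i₀ : I)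
    {X₀ Y₀ : Scheme.{u}} (f₀ : X₀ ⟶ Y₀) (g₀ : Y₀ ⟶ D.obj i₀)
    {X Y : Scheme.{u}} (f : X ⟶ Y) (g : Y ⟶ c.pt) (qY : Y ⟶ Y₀) (qX : X ⟶ X₀)
    (hY : IsPullback qY g g₀ (c.π.app i₀)) (hX : IsPullback qX f f₀ qY) (hQ : Q f₀) (hP : P f)
    {W V : Scheme.{u}} [IsAffine W] [IsAffine V] (w : W ⟶ X₀) (o : V ⟶ Y₀) [IsOpenImmersion w]
    [IsOpenImmersion o] (j : W ⟶ V) (hj : j ≫ o = w ≫ f₀) :
    ∃ φ : Over i₀, P (pullback.snd j (pullback.fst (o ≫ g₀) (D.map φ.hom))) := by
  have hq : IsPullback (pullback.fst o qY) (pullback.snd o qY) o qY := IsPullback.of_hasPullback _ _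
  have hY' : IsPullback (pullback.fst o qY) (pullback.snd o qY ≫ g) (o ≫ g₀) (c.π.app i₀) :=
    (hq.flip.paste_horiz hY.flip).flip
  -- `j` has `Q`
  have hQj : (Q ⊓ @QuasiCompact) j := by
    constructor
    · have h1 : Q (j ≫ o) := hj ▸ IsZariskiLocalAtSource.comp hQ w
      exact Q.of_isPullback (isPullback_id_of_mono j o) h1
    · infer_instance
  have hPj : P (pullback.snd j (pullback.fst o qY)) := by
    have h1 : P (pullback.snd f₀ qY) := snd_of_isPullback P hX hP
    have h2 : P (pullback.snd (w ≫ f₀) qY) := snd_comp_openImmersion w f₀ qY P h1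
    rw [← hj] at h2
    have h3 := snd_comp P (j ≫ o) qY (pullback.snd o qY) h2
    rw [← pullback.condition] at h3
    exact snd_of_isPullback P (isPullback_of_mono (IsPullback.of_hasPullback (j ≫ o) _)) h3
  obtain ⟨φ, hφ⟩ := exists_descend_affine (descendsAffine_of_descendsRing hA) D c hc i₀ j (o ≫ g₀)
    (pullback.snd j (pullback.fst o qY)) (pullback.snd o qY ≫ g) (pullback.fst o qY) (pullback.fst _ _)
    hY' (IsPullback.of_hasPullback _ _) hQj hPj (B := Γ(V, ⊤)) V.isoSpec.inv
  refine ⟨φ, ?_⟩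
  let k : pullback (o ≫ g₀) (D.map φ.hom) ⟶ pullback (V.isoSpec.inv ≫ o ≫ g₀) (D.map φ.hom) :=
    pullback.lift (pullback.fst _ _ ≫ V.isoSpec.hom) (pullback.snd _ _) (by
      simp only [Category.assoc, Iso.hom_inv_id_assoc]; rw [← pullback.condition])
  have h2 := snd_comp P j _ k hφ
  have h3 : k ≫ pullback.fst (V.isoSpec.inv ≫ o ≫ g₀) (D.map φ.hom) ≫ V.isoSpec.inv =
      pullback.fst (o ≫ g₀) (D.map φ.hom) := by
    rw [← Category.assoc, pullback.lift_fst, Category.assoc, Iso.hom_inv_id, Category.comp_id]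
  rwa [h3] at h2

set_option backward.isDefEq.respectTransparency false in
/-- **Descent of source-local properties from a limit to a stage**, with quasi-compact source. -/
theorem exists_descend_of_compactSource {P Q : MorphismProperty Scheme.{u}} [P.IsStableUnderBaseChange]
    [P.IsMultiplicative]
    [Q.IsStableUnderBaseChange] [IsZariskiLocalAtSource P] [IsZariskiLocalAtSource Q]
    (hA : DescendsRing Q P)
    {I : Type u} [SmallCategory I] [IsCofiltered I]
    (D : I ⥤ Scheme.{u}) (c : Cone D) (hc : IsLimit c)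
    [∀ (i j : I) (f : i ⟶ j), IsAffineHom (D.map f)] (i₀ : I)
    {X₀ Y₀ : Scheme.{u}} (f₀ : X₀ ⟶ Y₀) (g₀ : Y₀ ⟶ D.obj i₀) [CompactSpace X₀]
    {X Y : Scheme.{u}} (f : X ⟶ Y) (g : Y ⟶ c.pt) (qY : Y ⟶ Y₀) (qX : X ⟶ X₀)
    (hY : IsPullback qY g g₀ (c.π.app i₀)) (hX : IsPullback qX f f₀ qY) (hQ : Q f₀) (hP : P f) :
    ∃ (i : I) (φ : i ⟶ i₀), P (pullback.snd f₀ (pullback.fst g₀ (D.map φ))) := by
  classical
  have hpt : ∀ x : X₀, ∃ (V : Y₀.Opens) (W : X₀.Opens), IsAffineOpen V ∧ IsAffineOpen W ∧ x ∈ W ∧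
      W ≤ f₀ ⁻¹ᵁ V := by
    intro x
    obtain ⟨V, hV, hxV, -⟩ := exists_isAffineOpen_mem_and_subset (x := f₀ x) (U := ⊤) trivial
    obtain ⟨W, hW, hxW, hWV⟩ := exists_isAffineOpen_mem_and_subset (x := x) (U := f₀ ⁻¹ᵁ V) hxV
    exact ⟨V, W, hV, hW, hxW, hWV⟩
  choose V W hV hW hxW hWV using hpt
  obtain ⟨s, hs⟩ := isCompact_univ.elim_finite_subcover (fun x => (W x : Set X₀)) (fun x => (W x).isOpen)
    (fun x _ => Set.mem_iUnion.mpr ⟨x, hxW x⟩)
  have h1 (x : X₀) := by
    have : IsAffine (W x : Scheme) := hW x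
    have : IsAffine (V x : Scheme) := hV x
    exact exists_descend_piece hA D c hc i₀ f₀ g₀ f g qY qX hY hX hQ hP (W x).ι (V x).ι
      (f₀.resLE (V x) (W x) (hWV x)) (Scheme.Hom.resLE_comp_ι _ _)
  choose φ hφ using h1
  obtain ⟨ψ, hψ⟩ := IsCofiltered.inf_objs_exists (s.image φ)
  refine ⟨ψ.left, ψ.hom, ?_⟩
  let 𝒰 : X₀.OpenCover := Scheme.openCoverOfIsOpenCover X₀ (fun x : s => W x.1) (by
    rw [TopologicalSpace.IsOpenCover, eq_top_iff]
    intro x _
    obtain ⟨y, hy⟩ := Set.mem_iUnion.mp (hs (Set.mem_univ x))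
    obtain ⟨hys, hxy⟩ := Set.mem_iUnion.mp hy
    exact TopologicalSpace.Opens.mem_iSup.mpr ⟨⟨y, hys⟩, hxy⟩)
  refine snd_of_openCover P 𝒰 f₀ _ fun k => ?_
  change P (pullback.snd ((W k.1).ι ≫ f₀) _)
  rw [← Scheme.Hom.resLE_comp_ι f₀ (hWV k.1)]
  refine snd_comp_right P _ _ _ ?_ ?_
  · exact IsZariskiLocalAtSource.of_isOpenImmersion _
  · obtain ⟨m⟩ := hψ (Finset.mem_image_of_mem φ k.2)
    let l : pullback (V k.1).ι (pullback.fst g₀ (D.map ψ.hom)) ⟶
        pullback ((V k.1).ι ≫ g₀) (D.map (φ k.1).hom) :=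
      pullback.lift (pullback.fst _ _)
        (pullback.snd _ _ ≫ pullback.snd g₀ (D.map ψ.hom) ≫ D.map m.left) (by
          simp only [Category.assoc]
          rw [← D.map_comp, Over.w m, ← pullback.condition, ← Category.assoc, pullback.condition,
            Category.assoc])
    have h2 := snd_comp P _ _ l (hφ k.1)
    rwa [pullback.lift_fst] at h2

end K134.LimSource
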