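import Groth.Agent.S2469
import Groth.Agent.CalgC.SepDiff

/-!
# Differentials of field extensions and separability
-/

set_option autoImplicit false
universe u

open KaehlerDifferential IsLocalRing Module

namespace K134.ResDiff

section Field

variable {K L : Type u} [Field K] [Field L] [Algebra K L] [Algebra.EssFiniteType K L]

/-- A finitely generated field extension is separable iff its module of differentials has dimension at most
the transcendence degree. -/
theorem formallySmooth_iff_finrank_le :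
    Algebra.FormallySmooth K L ↔ finrank L Ω[L⁄K] ≤ Cardinal.toNat (Algebra.trdeg K L) := by
  obtain ⟨h1, h2, h3⟩ := Groth.Agent.S2469.result (K := K) (L := L)
  have key : Function.Injective (mapBaseChange ℤ K L) ↔ finrank L Ω[L⁄K] ≤ Cardinal.toNat (Algebra.trdeg K L) := by
    rw [← LinearMap.ker_eq_bot]
    change EGA41.imperfection ℤ K L = ⊥ ↔ _
    rw [← Submodule.finrank_eq_zero]
    omega
  constructor
  · intro h
    exact key.mp (Groth.Agent.CalgC.PthPower.mapBaseChange_injective_of_formallySmooth ℤ K L)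
  · intro h
    obtain h4 | ⟨p, hp, hpk⟩ := CharP.exists' K
    · exact Groth.Agent.CalgC.SepField.formallySmooth_of_perfectField K L
    · exact ((Groth.Agent.CalgC.SepDiff.tfae K L p).out 1 2).mpr (key.mpr h)

variable (K L) in
/-- A basis of differentials. -/
theorem exists_diff_gens : ∃ h : Fin (finrank L Ω[L⁄K]) → L,
    Submodule.span L (Set.range fun i ↦ D K L (h i)) = ⊤ := by
  obtain ⟨f, hf, h1, -⟩ := Submodule.exists_fun_fin_finrank_span_eq L (Set.range (D K L))
  have h2 : Submodule.span L (Set.range (D K L)) = ⊤ := span_range_derivation K L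
  have h3 : finrank L (Submodule.span L (Set.range (D K L))) = finrank L Ω[L⁄K] := by
    rw [h2, finrank_top]
  choose g hg using hf
  refine ⟨fun i ↦ g (Fin.cast h3.symm i), ?_⟩
  refine Eq.trans ?_ (h1.trans h2)
  congr 1
  ext x
  simp only [Set.mem_range, hg]
  exact ⟨fun ⟨i, hi⟩ ↦ ⟨_, hi⟩, fun ⟨i, hi⟩ ↦ ⟨Fin.cast h3 i, hi⟩⟩

variable (K L) in
theorem exists_trdeg : ∃ s : ℕ, Algebra.trdeg K L = s := by
  obtain ⟨h, -⟩ := Groth.Agent.Ega41.Cartier2.cartier (K := K) (L := L)
  exact Cardinal.lt_aleph0.mp h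

end Field

theorem ncard_lt (n r : ℕ) : {i : Fin n | (i : ℕ) < r}.ncard ≤ r := by
  rw [← Set.ncard_image_of_injective _ Fin.val_injective]
  refine (Set.ncard_le_ncard (t := (Finset.range r : Set ℕ)) ?_ (Set.toFinite _)).trans ?_
  · rintro _ ⟨i, hi, rfl⟩
    simpa using hi
  · rw [Set.ncard_coe_finset, Finset.card_range]

theorem ncard_le (n r : ℕ) : {i : Fin n | r ≤ (i : ℕ)}.ncard ≤ n - r := by
  rw [← Set.ncard_image_of_injective _ Fin.val_injective]
  refine (Set.ncard_le_ncard (t := (Finset.Ico r n : Set ℕ)) ?_ (Set.toFinite _)).trans ?_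
  · rintro _ ⟨i, hi, rfl⟩
    simpa using hi
  · rw [Set.ncard_coe_finset, Nat.card_Ico]

/-- Regular local rings in terms of generators of the maximal ideal. -/
theorem isRegularLocalRing_of_span {R : Type u} [CommRing R] [IsLocalRing R] [IsNoetherianRing R] (n r : ℕ)
    (hr : ringKrullDim R = (r : WithBot ℕ∞)) (g : Fin n → R)
    (h : Ideal.span (g '' {i : Fin n | (i : ℕ) < r}) = maximalIdeal R) : IsRegularLocalRing R := by
  apply IsRegularLocalRing.of_spanFinrank_maximalIdeal_le
  rw [hr, ← h]
  have h1 : (Submodule.span R (g '' {i : Fin n | (i : ℕ) < r})).spanFinrank ≤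
      (g '' {i : Fin n | (i : ℕ) < r}).ncard :=
    Submodule.spanFinrank_span_le_ncard_of_finite (Set.toFinite _)
  have h2 : (g '' {i : Fin n | (i : ℕ) < r}).ncard ≤ {i : Fin n | (i : ℕ) < r}.ncard :=
    Set.ncard_image_le (Set.toFinite _)
  exact_mod_cast h1.trans (h2.trans (ncard_lt n r))

/-- Generators of the maximal ideal of a regular local ring. -/
theorem exists_span_eq {R : Type u} [CommRing R] [IsRegularLocalRing R] (r : ℕ)
    (hr : ringKrullDim R = (r : WithBot ℕ∞)) : ∃ g : Fin r → R, Ideal.span (Set.range g) = maximalIdeal R := by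
  have h1 := (isRegularLocalRing_iff R).mp inferInstance
  rw [hr] at h1
  have h2 : (maximalIdeal R).spanFinrank = r := by exact_mod_cast h1
  have h3 : (maximalIdeal R).FG := (maximalIdeal R).fg_of_isNoetherianRing
  obtain ⟨s, hs, hs2⟩ := Submodule.FG.exists_span_finset_card_eq_spanFinrank h3
  let e := (Finset.equivFinOfCardEq (hs.trans h2)).symm
  refine ⟨fun i ↦ (e i : R), ?_⟩
  rw [← hs2]
  change Submodule.span R _ = _
  congr 1
  ext x
  simp only [Set.mem_range, Finset.mem_coe]
  exact ⟨fun ⟨i, hi⟩ ↦ hi ▸ (e i).2, fun hx ↦ ⟨e.symm ⟨x, hx⟩, by simp⟩⟩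

end K134.ResDiff
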