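import Groth.Agent.S2063
import Groth.Agent.Ega43.GeomRedAlg
import Groth.Agent.FlatA.FibreDim

/-!
# Flatness and the rank of the differentials: smoothness at a point
-/

set_option autoImplicit false
universe u

open KaehlerDifferential Module TensorProduct

namespace K134.SmoothDimAlg

lemma isSmoothAt_congr {A B : Type*} [CommRing A] [CommRing B] [Algebra A B] {I J : Ideal B} [I.IsPrime]
    [J.IsPrime] (h : I = J) (hI : Algebra.IsSmoothAt A I) : Algebra.IsSmoothAt A J := by
  subst h
  exact hI

attribute [local instance] Algebra.TensorProduct.rightAlgebra in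
/-- A flat algebra of finite presentation with free differentials of rank at most the dimension of the fibre at `q` is
smooth at `q`. -/
theorem isSmoothAt_of_basis {A B : Type u} [CommRing A] [CommRing B] [Algebra A B] [Module.Flat A B]
    [Algebra.FinitePresentation A B] (q : PrimeSpectrum B) (n : ℕ) (b : Basis (Fin n) B Ω[B⁄A])
    (h : (n : WithBot ℕ∞) ≤ FlatMor.localDim (PrimeSpectrum.comap (algebraMap A B) ⁻¹'
      {PrimeSpectrum.comap (algebraMap A B) q}) ⟨q, rfl⟩) : Algebra.IsSmoothAt A q.asIdeal := by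
  set p := PrimeSpectrum.comap (algebraMap A B) q with hp
  let Φ := PrimeSpectrum.preimageHomeomorphFiber A B p
  let Q : PrimeSpectrum (p.asIdeal.Fiber B) := Φ ⟨q, rfl⟩
  have h1 : FlatMor.localDim (PrimeSpectrum (p.asIdeal.Fiber B)) Q =
    FlatMor.localDim (PrimeSpectrum.comap (algebraMap A B) ⁻¹' {p}) ⟨q, rfl⟩ :=
    (Groth.Agent.VarietyB.DimTop.localDim_eq_of_homeomorph Φ ⟨q, rfl⟩).symm
  have h2 : Algebra.IsSmoothAt p.asIdeal.ResidueField Q.asIdeal := by
    rw [Groth.Agent.S2063.result]
    have e : Basis (Fin n) (p.asIdeal.Fiber B) Ω[p.asIdeal.Fiber B⁄p.asIdeal.ResidueField] :=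
      (b.baseChange (p.asIdeal.Fiber B)).map
        (KaehlerDifferential.tensorKaehlerEquiv A p.asIdeal.ResidueField B (p.asIdeal.Fiber B))
    rw [finrank_eq_card_basis (e.baseChange Q.asIdeal.ResidueField), Fintype.card_fin]
    exact h.trans h1.ge
  have h3 := Groth.Agent.Ega43.GeomRedAlg.isSmoothAt_of_fiber p.asIdeal Q.asIdeal
  have h4 : Q.asIdeal.comap (Algebra.TensorProduct.includeRight : B →ₐ[A] p.asIdeal.Fiber B) = q.asIdeal :=
    congrArg (fun z ↦ z.1.asIdeal) (Φ.symm_apply_apply ⟨q, rfl⟩)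
  exact isSmoothAt_congr h4 h3

end K134.SmoothDimAlg
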